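import Cfsg.Agent.Lib.KnownB.OPlusPres.Recog
import Cfsg.Agent.Lib.KnownB.OPlusPres.TargetRels
import Cfsg.Agent.Lib.KnownA.SpMultiplier.Pairing
import Cfsg.Agent.Lib.KnownA.SLMultiplier

/-!
# Root elements of the commutator subgroup of the plus type isometries
-/

set_option autoImplicit false
set_option linter.unusedSectionVars false
set_option linter.unusedSimpArgs false

open Matrix CfsgLib.Perm.Quad.SL2 CfsgLib.SL2Pres CfsgLib.SLPres CfsgLib.Classical CfsgLib.SpPres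
open CfsgLib.KnownA.StSL CfsgLib.Chevalley.SingleBond CfsgLib.OPlusPres
open scoped commutatorElement

namespace CfsgLib.KnownA.PlusMultiplier

variable {F : Type*} [Field F] [Finite F] {n : ℕ}

/-- The commutator subgroup of the isometries. -/
abbrev Om (n : ℕ) (F : Type*) [Field F] : Type _ := ↥(commutator ↥(Plus.O n F))

/-- The matrix of an element. -/
abbrev mC (g : Om n F) : Matrix (Fin n ⊕ Fin n) (Fin n ⊕ Fin n) F := Plus.mat g.1

theorem mC_inj {g h : Om n F} (e : mC g = mC h) : g = h := Subtype.ext (Plus.mat_injective e)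

theorem mC_mul (g h : Om n F) : mC (g * h) = mC g * mC h := rfl

/-- The Levi factor. -/
def levC (hn : 4 ≤ n) : SpecialLinearGroup (Fin n) F →* Om n F :=
  (Plus.lev n).codRestrict _ (lev_mem_commutator (by omega))

theorem levC_val (hn : 4 ≤ n) (A : SpecialLinearGroup (Fin n) F) : (levC hn A).1 = Plus.lev n A := rfl

/-- The double exchange. -/
def dC (hn : 4 ≤ n) : Om n F := ⟨dEl hn, dEl_mem_commutator hn⟩

theorem dC_sq (hn : 4 ≤ n) : dC (F := F) hn * dC hn = 1 := Subtype.ext (dEl_sq hn)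

theorem dC_inv (hn : 4 ≤ n) : (dC (F := F) hn)⁻¹ = dC hn := inv_eq_of_mul_eq_one_right (dC_sq hn)

/-- The coordinate. -/
def idx (a : Fin n ⊕ Fin n) : Fin n := Sum.elim id id a

@[simp] theorem idx_inl (i : Fin n) : idx (Sum.inl i : Fin n ⊕ Fin n) = i := rfl

@[simp] theorem idx_inr (i : Fin n) : idx (Sum.inr i : Fin n ⊕ Fin n) = i := rfl

theorem idx_swap (a : Fin n ⊕ Fin n) : idx a.swap = idx a := by cases a <;> rfl

theorem ne_of_idx {a b : Fin n ⊕ Fin n} (h : idx a ≠ idx b) : a ≠ b ∧ a.swap ≠ b ∧ a ≠ b.swap ∧ a.swap ≠ b.swap := by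
  cases a <;> cases b <;> simp_all

theorem exists_el (hn : 4 ≤ n) {a b : Fin n ⊕ Fin n} (h : idx a ≠ idx b) (t : F) :
    ∃ g : Om n F, mC g = Plus.el a b t := by
  have h01 := ix_ne hn (show (0 : Fin 4) ≠ 1 by decide)
  rcases a with i | i <;> rcases b with j | j <;> simp only [idx_inl, idx_inr] at h
  · exact ⟨levC hn (SpecialLinearGroup.transvection h t), Plus.mat_lev_tv h t⟩
  · obtain ⟨σ, hσ0, hσ1⟩ := exists_perm_two hn h
    refine ⟨levC hn (monSL (show 3 ≤ n by omega) σ) *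
      (dC hn * levC hn (emb2 (ix hn 0) (ix hn 1) (up t)) * dC hn) *
        (levC hn (monSL (show 3 ≤ n by omega) σ))⁻¹, ?_⟩
    show Plus.mat (Plus.lev n _ * (dEl hn * Plus.lev n _ * dEl hn) * (Plus.lev n _)⁻¹) = _
    rw [lev_conj_upBlk _ (mat_dEl_up t), congr'_altM (col_monSL hn σ _) (col_monSL hn σ _),
      monSgn_ix hn σ (by decide), monSgn_ix hn σ (by decide), hσ0, hσ1, one_mul, one_mul, el_up]
  · obtain ⟨σ, hσ0, hσ1⟩ := exists_perm_two hn h
    refine ⟨levC hn (monSL (show 3 ≤ n by omega) σ) *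
      (dC hn * levC hn (emb2 (ix hn 0) (ix hn 1) (low (-t))) * dC hn) *
        (levC hn (monSL (show 3 ≤ n by omega) σ))⁻¹, ?_⟩
    show Plus.mat (Plus.lev n _ * (dEl hn * Plus.lev n _ * dEl hn) * (Plus.lev n _)⁻¹) = _
    rw [lev_conj_lowBlk _ (mat_dEl_low (-t)), monSL_invT,
      congr'_altM (col_monSL hn σ _) (col_monSL hn σ _),
      monSgn_ix hn σ (by decide), monSgn_ix hn σ (by decide), hσ0, hσ1, one_mul, one_mul, altM_swap, neg_neg,
      el_low]
  · refine ⟨levC hn (SpecialLinearGroup.transvection h.symm (-t)), ?_⟩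
    rw [Plus.el_swap]
    exact Plus.mat_lev_tv h.symm (-t)

open Classical in
/-- The root elements. -/
noncomputable def rt (hn : 4 ≤ n) (a b : Fin n ⊕ Fin n) (t : F) : Om n F :=
  if h : idx a ≠ idx b then (exists_el hn h t).choose else 1

theorem mC_rt (hn : 4 ≤ n) {a b : Fin n ⊕ Fin n} (h : idx a ≠ idx b) (t : F) :
    mC (rt hn a b t) = Plus.el a b t := by
  rw [rt, dif_pos h]; exact (exists_el hn h t).choose_spec

theorem rt_swap (hn : 4 ≤ n) {a b : Fin n ⊕ Fin n} (h : idx a ≠ idx b) (t : F) :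
    rt hn a b t = rt hn b.swap a.swap (-t) := by
  refine mC_inj ?_
  rw [mC_rt hn h, mC_rt hn (by rw [idx_swap, idx_swap]; exact h.symm), Plus.el_swap]

theorem levC_tv (hn : 4 ≤ n) {i j : Fin n} (h : i ≠ j) (t : F) :
    levC hn (SpecialLinearGroup.transvection h t) = rt hn (Sum.inl i) (Sum.inl j) t := by
  refine mC_inj ?_
  rw [mC_rt hn (show idx (Sum.inl i) ≠ idx (Sum.inl j) from h)]
  exact Plus.mat_lev_tv h t

omit [Finite F] in
theorem el_add {a b : Fin n ⊕ Fin n} (h : idx a ≠ idx b) (t u : F) :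
    Plus.el a b t * Plus.el a b u = Plus.el a b (t + u) := by
  obtain ⟨e1, e2, e3, e4⟩ := ne_of_idx h
  have s1 : ∀ x : Fin n ⊕ Fin n, x.swap ≠ x := fun x => by cases x <;> simp
  simp only [Plus.el, Matrix.single_add, add_mul, mul_add, sub_mul, mul_sub, one_mul, mul_one,
    Matrix.single_mul_single_of_ne _ _ _ _ e1.symm, Matrix.single_mul_single_of_ne _ _ _ _ (s1 b).symm,
    Matrix.single_mul_single_of_ne _ _ _ _ (s1 a), Matrix.single_mul_single_of_ne _ _ _ _ e4]
  abel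

theorem rt_add (hn : 4 ≤ n) {a b : Fin n ⊕ Fin n} (h : idx a ≠ idx b) (t u : F) :
    rt hn a b (t + u) = rt hn a b t * rt hn a b u := by
  refine mC_inj ?_
  rw [mC_mul, mC_rt hn h, mC_rt hn h, mC_rt hn h, el_add h]

theorem rt_comm (hn : 4 ≤ n) {a b c e : Fin n ⊕ Fin n} (h : idx a ≠ idx b) (h' : idx c ≠ idx e)
    (h1 : b ≠ c) (h2 : e ≠ a) (h3 : a.swap ≠ c) (h4 : b ≠ e.swap) (t u : F) :
    Commute (rt hn a b t) (rt hn c e u) := by
  refine mC_inj ?_
  rw [mC_mul, mC_mul, mC_rt hn h, mC_rt hn h']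
  exact (Plus.el_comm h1 h2 h3 h4 t u).eq

/-- The two root elements differing by the sign of the second coordinate commute. -/
theorem rt_comm_swap (hn : 4 ≤ n) {a x : Fin n ⊕ Fin n} (h : idx a ≠ idx x) (t u : F) :
    Commute (rt hn a x t) (rt hn a x.swap u) := by
  refine mC_inj ?_
  rw [mC_mul, mC_mul, mC_rt hn h, mC_rt hn (by rwa [idx_swap])]
  obtain ⟨e1, e2, e3, e4⟩ := ne_of_idx h
  have s1 : ∀ x : Fin n ⊕ Fin n, x.swap ≠ x := fun x => by cases x <;> simp
  simp only [Plus.el, Sum.swap_swap, add_mul, mul_add, sub_mul, mul_sub, one_mul, mul_one,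
    Matrix.single_mul_single_same,
    Matrix.single_mul_single_of_ne _ _ _ _ e1.symm, Matrix.single_mul_single_of_ne _ _ _ _ e3.symm,
    Matrix.single_mul_single_of_ne _ _ _ _ (s1 a), Matrix.single_mul_single_of_ne _ _ _ _ e4,
    Matrix.single_mul_single_of_ne _ _ _ _ e2, mul_comm u t]
  abel

/-- The commutator relation. -/
theorem rt_mix (hn : 4 ≤ n) {a x b : Fin n ⊕ Fin n} (h1 : idx a ≠ idx x) (h2 : idx x ≠ idx b)
    (h3 : idx a ≠ idx b) (t u : F) :
    ⁅rt hn a x t, rt hn x b u⁆ = rt hn a b (t * u) := by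
  suffices H : rt hn a x t * rt hn x b u = rt hn a b (t * u) * (rt hn x b u * rt hn a x t) by
    rw [commutatorElement_def, H]; group
  refine mC_inj ?_
  simp only [mC_mul, mC_rt hn h1, mC_rt hn h2, mC_rt hn h3]
  obtain ⟨p1, p2, p3, p4⟩ := ne_of_idx h1
  obtain ⟨q1, q2, q3, q4⟩ := ne_of_idx h2
  obtain ⟨r1, r2, r3, r4⟩ := ne_of_idx h3
  have s1 : ∀ x : Fin n ⊕ Fin n, x.swap ≠ x := fun x => by cases x <;> simp
  simp only [Plus.el, add_mul, mul_add, sub_mul, mul_sub, one_mul, mul_one,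
    Matrix.single_mul_single_same, mul_zero, zero_mul, add_zero, zero_add, sub_zero, zero_sub, neg_zero,
    Matrix.single_mul_single_of_ne _ _ _ _ q3, Matrix.single_mul_single_of_ne _ _ _ _ p2,
    Matrix.single_mul_single_of_ne _ _ _ _ r4, Matrix.single_mul_single_of_ne _ _ _ _ r1.symm,
    Matrix.single_mul_single_of_ne _ _ _ _ q3.symm, Matrix.single_mul_single_of_ne _ _ _ _ p2.symm,
    Matrix.single_mul_single_of_ne _ _ _ _ p3.symm, Matrix.single_mul_single_of_ne _ _ _ _ p4,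
    Matrix.single_mul_single_of_ne _ _ _ _ q1.symm, Matrix.single_mul_single_of_ne _ _ _ _ q2.symm,
    Matrix.single_mul_single_of_ne _ _ _ _ r2, Matrix.single_mul_single_of_ne _ _ _ _ r3.symm,
    Matrix.single_mul_single_of_ne _ _ _ _ (s1 b).symm, Matrix.single_mul_single_of_ne _ _ _ _ (s1 a),
    mul_comm u t]
  abel

/-- The effect of the exchange on signed coordinates. -/
def dX (hn : 4 ≤ n) (a : Fin n ⊕ Fin n) : Fin n ⊕ Fin n :=
  Plus.flipPerm (ix hn 1) (Plus.flipPerm (ix hn 2) a)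

theorem idx_dX (hn : 4 ≤ n) (a : Fin n ⊕ Fin n) : idx (dX hn a) = idx a := by
  have h : ∀ (j : Fin n) (x : Fin n ⊕ Fin n), idx (Plus.flipPerm j x) = idx x := fun j x => by
    rcases x with i | i <;> by_cases e : i = j <;> simp [Plus.flipPerm, Equiv.swap_apply_def, e]
  rw [dX, h, h]

theorem dX_out (hn : 4 ≤ n) {a : Fin n ⊕ Fin n} (h : Out hn (idx a)) : dX hn a = a := by
  obtain ⟨h1, h2⟩ := h
  rcases a with i | i <;> simp only [idx_inl, idx_inr] at h1 h2 <;>
    simp [dX, Plus.flipPerm, Equiv.swap_apply_def, h1, h2]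

theorem dX_in (hn : 4 ≤ n) {a : Fin n ⊕ Fin n} (h : idx a = ix hn 1 ∨ idx a = ix hn 2) :
    dX hn a = a.swap := by
  have h12 := ix_ne hn (show (1 : Fin 4) ≠ 2 by decide)
  rcases a with i | i <;> simp only [idx_inl, idx_inr] at h <;>
    rcases h with rfl | rfl <;> simp [dX, Plus.flipPerm, Equiv.swap_apply_def, h12, h12.symm]

theorem dC_rt (hn : 4 ≤ n) {a b : Fin n ⊕ Fin n} (h : idx a ≠ idx b) (t : F) :
    dC hn * rt hn a b t * (dC hn)⁻¹ = rt hn (dX hn a) (dX hn b) t := by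
  refine mC_inj ?_
  rw [dC_inv, mC_rt hn (by rw [idx_dX, idx_dX]; exact h)]
  exact dEl_conj_el hn (mC_rt hn h t)

theorem dC_out (hn : 4 ≤ n) {a b : Fin n ⊕ Fin n} (h : idx a ≠ idx b) (ha : Out hn (idx a))
    (hb : Out hn (idx b)) (t : F) : Commute (dC hn) (rt hn a b t) := by
  have := dC_rt hn h t
  rw [dX_out hn ha, dX_out hn hb, mul_inv_eq_iff_eq_mul] at this
  exact this

/-- A diagonal sign change commutes with the exchange. -/
theorem dC_sign (hn : 4 ≤ n) {i j : Fin n} (h : i ≠ j) :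
    Commute (dC (F := F) hn) (levC hn (emb2 i j (dSL (neg_ne_zero.2 (one_ne_zero' F))))) := by
  refine mul_inv_eq_iff_eq_mul.1 (mC_inj ?_)
  rw [dC_inv]
  show Plus.mat (dEl hn * Plus.lev n _ * dEl hn) = Plus.mat (Plus.lev n _)
  rw [mat_dEl_conj, Plus.mat_lev]
  have hi : (emb2 i j (dSL (neg_ne_zero.2 (one_ne_zero' F))))⁻¹ =
      emb2 i j (dSL (neg_ne_zero.2 (one_ne_zero' F))) := by
    rw [← map_inv]
    congr 1
    rw [CfsgLib.OPlusPres.dSL_inv]
    congr 1
    exact inv_neg_one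
  rw [hi, emb2_dSL h, SpecialLinearGroup.diag2n_coe, Matrix.diagonal_transpose, Matrix.fromBlocks_diagonal,
    Matrix.submatrix_diagonal_equiv, Matrix.submatrix_diagonal_equiv]
  refine congrArg Matrix.diagonal (funext fun x => ?_)
  rcases x with x | x <;> by_cases e1 : x = ix hn 1 <;> by_cases e2 : x = ix hn 2 <;>
    simp [Plus.flipPerm, Equiv.swap_apply_def, e1, e2]

end CfsgLib.KnownA.PlusMultiplier
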