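import Cfsg.Agent.Lib.KnownA.PlusMultiplier.Main
import Mathlib.GroupTheory.SpecificGroups.KleinFour

/-!
# The centre of the double cover
-/

set_option autoImplicit false
set_option linter.unusedSectionVars false
set_option linter.unusedSimpArgs false

open Matrix CfsgLib.Perm.Quad.SL2 CfsgLib.SL2Pres CfsgLib.SLPres CfsgLib.Classical CfsgLib.SpPres
open CfsgLib.KnownA.StSL CfsgLib.Chevalley.SingleBond CfsgLib.OPlusPres CfsgLib.KnownA.SpMultiplier.Pairing

namespace CfsgLib.KnownA.PlusMultiplier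

universe u

variable {F : Type u} [Field F] [Fintype F] {n : ℕ}

theorem card_center_om_two (h2 : (2 : F) = 0) (hn : 4 ≤ n) :
    Nat.card (Subgroup.center (Om n F)) = 1 := by
  have : CharP F 2 := by
    have : ringChar F = 2 := by
      by_contra hne
      exact Ring.two_ne_zero hne h2
    exact this ▸ ringChar.charP F
  rw [Nat.card_congr (Subgroup.centerCongr
    (omegaEquiv (CfsgLib.Orth.plusForm F n) (CfsgLib.Orth.plusForm_apply n))).toEquiv]
  refine card_center_two (CfsgLib.Orth.plusForm_nondeg n) ?_ ?_ (hypPairs_plus n (by omega))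
  · refine CfsgLib.Orth.good_of (Or.inr ?_)
    rw [Module.finrank_fintype_fun_eq_card, Fintype.card_sum, Fintype.card_fin]
    omega
  · rw [Module.finrank_fintype_fun_eq_card, Fintype.card_sum, Fintype.card_fin]
    omega

theorem card_center_om_odd (h2 : (2 : F) ≠ 0) (hn : 4 ≤ n) :
    (IsSquare ((-1 : F) ^ n) → Nat.card (Subgroup.center (Om n F)) = 2) ∧
      (¬ IsSquare ((-1 : F) ^ n) → Nat.card (Subgroup.center (Om n F)) = 1) := by
  rw [Nat.card_congr (Subgroup.centerCongr
    (omegaEquiv (CfsgLib.Orth.plusForm F n) (CfsgLib.Orth.plusForm_apply n))).toEquiv,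
    ← negEl_plus_iff h2 n]
  exact ⟨card_center_odd_neg (CfsgLib.Orth.plusForm_nondeg n) h2 (hypPairs_plus n (by omega)),
    card_center_odd_not (CfsgLib.Orth.plusForm_nondeg n) h2 (hypPairs_plus n (by omega))⟩

theorem slExt {A B : SpecialLinearGroup (Fin n) F} (h : (A : Matrix (Fin n) (Fin n) F) = B) : A = B :=
  Subtype.ext h

theorem negOne_diag {m : Type} [DecidableEq m] : (-1 : Matrix m m F) = Matrix.diagonal fun _ => (-1 : F) := by
  ext i j
  by_cases h : i = j <;> simp [h]

/-- The diagonal sign change on a set of even size. -/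
def sgnM (S : Finset (Fin n)) (hS : Even S.card) : SpecialLinearGroup (Fin n) F :=
  ⟨Matrix.diagonal fun x => if x ∈ S then -1 else 1, by
    rw [Matrix.det_diagonal, Finset.prod_ite_mem, Finset.univ_inter, Finset.prod_const, hS.neg_one_pow]⟩

theorem sgnM_val (S : Finset (Fin n)) (hS : Even S.card) :
    (sgnM (F := F) S hS).1 = Matrix.diagonal fun x => if x ∈ S then (-1 : F) else 1 := rfl

theorem sgnM_pair {a b : Fin n} (h : a ≠ b) {S : Finset (Fin n)} (hS : Even S.card) (ha : a ∉ S) (hb : b ∉ S)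
    (hS' : Even (insert a (insert b S)).card) :
    sgnM (F := F) (insert a (insert b S)) hS' = emb2 a b (dSL (neg_ne_zero.2 (one_ne_zero' F))) * sgnM S hS := by
  refine slExt ?_
  show (sgnM (F := F) (insert a (insert b S)) hS').1 =
    (emb2 a b (dSL (neg_ne_zero.2 (one_ne_zero' F)))).1 * (sgnM (F := F) S hS).1
  rw [emb2_dSL h, SpecialLinearGroup.diag2n_coe, sgnM_val, sgnM_val, Matrix.diagonal_mul_diagonal]
  refine congrArg Matrix.diagonal (funext fun x => ?_)
  by_cases hxa : x = a
  · subst hxa; simp [ha]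
  by_cases hxb : x = b
  · subst hxb; simp [hb, h.symm, inv_neg_one]
  · simp [hxa, hxb]

theorem sgnM_sq (S : Finset (Fin n)) (hS : Even S.card) : sgnM (F := F) S hS * sgnM S hS = 1 := by
  refine slExt ?_
  show (sgnM (F := F) S hS).1 * (sgnM (F := F) S hS).1 = (1 : Matrix (Fin n) (Fin n) F)
  rw [sgnM_val, Matrix.diagonal_mul_diagonal, ← Matrix.diagonal_one]
  refine congrArg Matrix.diagonal (funext fun x => ?_)
  split_ifs <;> simp

section Cover

variable {hn : 4 ≤ n} {Γ : Type u} [Group Γ]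
  {ζ : Γ →* Om n F} (hζ : Function.Surjective ζ) (hζk : ζ.ker ≤ Subgroup.center Γ)
  {φ : SpecialLinearGroup (Fin n) F →* Γ} {D : Γ} (L : Lifts hn ζ φ D) (htop : gen φ D = ⊤)
  (hc : D * D ≠ 1) (hq : n = 4 → Fintype.card F ≠ 2)

include hζ hζk L htop hc hq

theorem card_ker : Nat.card ζ.ker = 2 := by
  have e : ζ.ker = Subgroup.zpowers (D * D) := le_antisymm
    (fun x hx => L.ker_le hζ hζk hq (htop ▸ Subgroup.mem_top x) hx)
    (Subgroup.zpowers_le.2 L.ξ_sq)
  rw [e, Nat.card_zpowers]
  exact orderOf_eq_prime (by rw [pow_two]; exact (L.sq_facts hζ hζk hq).1) hc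

theorem mem_center_cases {z : Γ} (hz : ζ z ∈ Subgroup.center (Om n F)) (hz1 : ζ z ≠ 1)
    (h2c : Nat.card (Subgroup.center (Om n F)) = 2) {x : Γ} (hx : x ∈ Subgroup.center Γ) :
    ∃ k : ℤ, x = (D * D) ^ k ∨ x = (D * D) ^ k * z := by
  have hx' : ζ x ∈ Subgroup.center (Om n F) := (center_eq_comap hζ hζk L htop).le hx
  obtain ⟨a, b, hab, huniv⟩ := Nat.card_eq_two_iff.1 h2c
  have hmem : ∀ y : Subgroup.center (Om n F), y = a ∨ y = b := fun y => by
    have := huniv.ge (Set.mem_univ y)
    simpa using this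
  have hcases : ζ x = 1 ∨ ζ x = ζ z := by
    rcases hmem ⟨_, hx'⟩ with h | h <;> rcases hmem ⟨_, hz⟩ with h' | h' <;>
      rcases hmem 1 with h'' | h''
    all_goals first
      | exact Or.inl (congrArg Subtype.val (h.trans h''.symm))
      | exact Or.inr (congrArg Subtype.val (h.trans h'.symm))
      | exact absurd (congrArg Subtype.val (h'.trans h''.symm)) hz1
  rcases hcases with h | h
  · obtain ⟨k, hk⟩ := Subgroup.mem_zpowers_iff.1 (L.ker_le hζ hζk hq (htop ▸ Subgroup.mem_top x) h)
    exact ⟨k, Or.inl hk.symm⟩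
  · obtain ⟨k, hk⟩ := Subgroup.mem_zpowers_iff.1 (L.ker_le hζ hζk hq (htop ▸ Subgroup.mem_top (x * z⁻¹))
      (by rw [map_mul, map_inv, h, mul_inv_cancel]))
    exact ⟨k, Or.inr (by rw [hk, inv_mul_cancel_right])⟩

omit hζ hζk htop hc hq in
theorem neg_mem_center {z : Γ} (hz : mC (ζ z) = -1) (h2 : (2 : F) ≠ 0) :
    ζ z ∈ Subgroup.center (Om n F) ∧ ζ z ≠ 1 := by
  refine ⟨Subgroup.mem_center_iff.2 fun g => mC_inj ?_, fun h => ?_⟩
  · rw [mC_mul, mC_mul, hz, mul_neg, neg_mul, mul_one, one_mul]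
  · rw [h, show mC (1 : Om n F) = 1 from rfl] at hz
    have h1 := congrFun (congrFun hz (Sum.inl ⟨0, by omega⟩)) (Sum.inl ⟨0, by omega⟩)
    simp only [Matrix.one_apply_eq, Matrix.neg_apply] at h1
    exact h2 (by linear_combination h1)

/-- In even rank the centre is a four-group. -/
theorem klein_center (h2 : (2 : F) ≠ 0) (hev : Even n) : IsKleinFour (Subgroup.center Γ) := by
  have hsq : IsSquare ((-1 : F) ^ n) := by rw [hev.neg_one_pow]; exact IsSquare.one
  have hcard : Nat.card (Subgroup.center Γ) = 4 := by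
    rw [card_center_mul hζ hζk L htop, card_ker hζ hζk L htop hc hq, (card_center_om_odd h2 hn).1 hsq]
  set z := φ (sgnM Finset.univ (by simpa using hev))
  have hz : mC (ζ z) = -1 := by
    rw [L.lev]
    show Plus.mat (Plus.lev n _) = _
    rw [Plus.mat_lev, inv_eq_of_mul_eq_one_right (sgnM_sq (F := F) _ _), sgnM_val, Matrix.diagonal_transpose,
      Matrix.fromBlocks_diagonal, negOne_diag]
    refine congrArg Matrix.diagonal (funext fun x => ?_)
    rcases x with x | x <;> simp
  have hz2 : z * z = 1 := by rw [← map_mul, sgnM_sq, map_one]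
  have : Finite (Subgroup.center Γ) := Nat.finite_of_card_ne_zero (by rw [hcard]; norm_num)
  have hnt : Nontrivial (Subgroup.center Γ) := Finite.one_lt_card_iff_nontrivial.1 (by rw [hcard]; norm_num)
  refine ⟨hcard, ?_⟩
  have hdvd : Monoid.exponent (Subgroup.center Γ) ∣ 2 := Monoid.exponent_dvd_of_forall_pow_eq_one fun x => by
    apply Subtype.ext
    rw [Subgroup.coe_pow, Subgroup.coe_one, pow_two]
    have hcz : ∀ k : ℤ, (D * D) ^ k * (D * D) ^ k = 1 := fun k => by
      rw [← ((Commute.refl (D * D)).mul_zpow k), (L.sq_facts hζ hζk hq).1, _root_.one_zpow]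
    have hzc := neg_mem_center L hz h2
    obtain ⟨k, h | h⟩ := mem_center_cases hζ hζk L htop hc hq hzc.1 hzc.2
      ((card_center_om_odd h2 hn).1 hsq) x.2
    · rw [h, hcz]
    · have hcm : Commute z ((D * D) ^ k) :=
        ((central_of_one hζk L.ξ_sq z).zpow_left k).symm
      rw [h, hcm.mul_mul_mul_comm, hcz, hz2, mul_one]
  rcases (Nat.dvd_prime Nat.prime_two).1 hdvd with h | h
  · have := Monoid.exp_eq_one_iff.1 h
    exact absurd hnt (not_nontrivial_iff_subsingleton.2 this)
  · exact h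

set_option maxHeartbeats 1600000 in
/-- In odd rank the centre is cyclic. -/
theorem cyclic_center (h2 : (2 : F) ≠ 0) (hodd : Odd n)
    (hid : D * D = φ (emb2 (ix hn 0) (ix hn 1) jSL) * φ (emb2 (ix hn 0) (ix hn 1) jSL) *
      (D * (φ (emb2 (ix hn 0) (ix hn 1) jSL) * φ (emb2 (ix hn 0) (ix hn 1) jSL)) * D⁻¹)) :
    IsCyclic (Subgroup.center Γ) := by
  classical
  have hcard : Nat.card (Subgroup.center Γ) = Nat.card (Subgroup.center (Om n F)) * 2 := by
    rw [card_center_mul hζ hζk L htop, card_ker hζ hζk L htop hc hq]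
  by_cases hsq : IsSquare ((-1 : F) ^ n)
  swap
  · rw [(card_center_om_odd h2 hn).2 hsq, one_mul] at hcard
    have := Fact.mk Nat.prime_two
    exact isCyclic_of_prime_card (p := 2) hcard
  rw [(card_center_om_odd h2 hn).1 hsq] at hcard
  obtain ⟨s, hs⟩ : ∃ s : F, s * s = -1 := by
    obtain ⟨s, hs⟩ := hsq
    exact ⟨s, by rw [← hs, hodd.neg_one_pow]⟩
  have hs0 : s ≠ 0 := fun h => by
    rw [h, mul_zero] at hs
    exact neg_ne_zero.2 (one_ne_zero' F) hs.symm
  have hsi : s⁻¹ = -s := inv_eq_of_mul_eq_one_right (by rw [mul_neg, hs, neg_neg])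
  have h01 := ix_ne hn (show (0 : Fin 4) ≠ 1 by decide)
  have h02 := ix_ne hn (show (0 : Fin 4) ≠ 2 by decide)
  have h12 := ix_ne hn (show (1 : Fin 4) ≠ 2 by decide)
  set R : Finset (Fin n) := Finset.univ.erase (ix hn 0)
  set T : Finset (Fin n) := (R.erase (ix hn 1)).erase (ix hn 2)
  have hRc : Even R.card := by
    rw [Finset.card_erase_of_mem (Finset.mem_univ _), Finset.card_univ, Fintype.card_fin]
    obtain ⟨k, hk⟩ := hodd
    exact ⟨k, by omega⟩
  have hTR : insert (ix hn 1) (insert (ix hn 2) T) = R := by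
    rw [Finset.insert_erase (by simp [R, h12.symm, h02.symm]), Finset.insert_erase (by simp [R, h01.symm])]
  have hTc : Even T.card := by
    have h1 : R.card = T.card + 1 + 1 := by
      rw [← hTR, Finset.card_insert_of_notMem (by simp [T, h12]), Finset.card_insert_of_notMem (by simp [T])]
    rw [h1] at hRc
    simpa [parity_simps] using hRc
  have hTout : ∀ x ∈ T, Out hn x := fun x hx => by
    simp only [T, Finset.mem_erase] at hx
    exact ⟨hx.2.1, hx.1⟩
  have hOut : ∀ a b, a ≠ b → Out hn a → Out hn b → ∀ w, Commute D (φ (emb2 a b w)) := fun a b h ha hb w => by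
    have := eq_top_of_up_low (H := (Subgroup.centralizer {D}).comap (φ.comp (emb2 a b)))
      (fun t => by
        rw [Subgroup.mem_comap, Subgroup.mem_centralizer_singleton_iff, MonoidHom.comp_apply, emb2_up h,
          ← yTr_eq φ h]
        exact (L.cK hζ hζk hq h ha hb t).eq.symm)
      (fun t => by
        rw [Subgroup.mem_comap, Subgroup.mem_centralizer_singleton_iff, MonoidHom.comp_apply, emb2_low h,
          ← yTr_eq φ h.symm]
        exact (L.cK hζ hζk hq h.symm hb ha t).eq.symm)
    exact (Subgroup.mem_centralizer_singleton_iff.1 (Subgroup.mem_comap.1 (this.ge (Subgroup.mem_top w)))).symm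
  have hDT : ∀ m, ∀ S : Finset (Fin n), (hS : Even S.card) → (∀ x ∈ S, Out hn x) → S.card = m →
      Commute D (φ (sgnM S hS)) := by
    intro m
    induction m using Nat.strong_induction_on with
    | _ m ih =>
      intro S hS hout hm
      rcases S.eq_empty_or_nonempty with rfl | ⟨a, ha⟩
      · rw [show sgnM (F := F) (∅ : Finset (Fin n)) hS = 1 by
          refine slExt ?_
          show (sgnM (F := F) (∅ : Finset (Fin n)) hS).1 = (1 : Matrix (Fin n) (Fin n) F)
          rw [sgnM_val, ← Matrix.diagonal_one]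
          simp, map_one]
        exact Commute.one_right D
      · have hne : (S.erase a).Nonempty := Finset.card_pos.1 (by
          rw [Finset.card_erase_of_mem ha]
          have := Finset.card_pos.2 ⟨a, ha⟩
          obtain ⟨k, hk⟩ := hS
          omega)
        obtain ⟨b, hb⟩ := hne
        have hba := Finset.ne_of_mem_erase hb
        have hbS := Finset.mem_of_mem_erase hb
        set S' := (S.erase a).erase b
        have hins : insert a (insert b S') = S := by
          rw [Finset.insert_erase hb, Finset.insert_erase ha]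
        have hc' : S.card = S'.card + 1 + 1 := by
          rw [← hins, Finset.card_insert_of_notMem (by simp [S', hba.symm]),
            Finset.card_insert_of_notMem (by simp [S'])]
        have hS' : Even S'.card := by
          rw [hc'] at hS
          simpa [parity_simps] using hS
        have e : sgnM (F := F) S hS = emb2 a b (dSL (neg_ne_zero.2 (one_ne_zero' F))) * sgnM S' hS' := by
          rw [← sgnM_pair hba.symm hS' (by simp [S']) (by simp [S']) (by rw [hins]; exact hS)]
          refine slExt ?_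
          rw [sgnM_val, sgnM_val, hins]
        rw [e, map_mul]
        exact (hOut a b hba.symm (hout a ha) (hout b hbS) _).mul_right
          (ih S'.card (by omega) S' hS' (fun x hx => hout x (Finset.mem_of_mem_erase (Finset.mem_of_mem_erase hx)))
            rfl)
  set X := φ (emb2 (ix hn 0) (ix hn 1) (dSL hs0)) with hX
  set Y := D * X * D⁻¹ with hY
  set Z := φ (sgnM R hRc) with hZ
  have hDR : Commute D Z := by
    have e : sgnM (F := F) R hRc = emb2 (ix hn 1) (ix hn 2) (dSL (neg_ne_zero.2 (one_ne_zero' F))) * sgnM T hTc := by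
      rw [← sgnM_pair h12 hTc (by simp [T]) (by simp [T]) (by rw [hTR]; exact hRc)]
      refine slExt ?_
      rw [sgnM_val, sgnM_val, hTR]
    rw [hZ, e, map_mul]
    refine Commute.mul_right ?_ (hDT _ T hTc hTout rfl)
    refine mul_inv_eq_iff_eq_mul.1 ((L.flip hζ hζk hq _).trans ?_)
    rw [CfsgLib.OPlusPres.cj_dSL, CfsgLib.OPlusPres.dSL_inv]
    congr 3
    exact inv_neg_one
  have hXR : Commute X Z := by
    refine Commute.map ?_ φ
    refine slExt ?_
    show (emb2 (ix hn 0) (ix hn 1) (dSL hs0)).1 * (sgnM (F := F) R hRc).1 =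
      (sgnM (F := F) R hRc).1 * (emb2 (ix hn 0) (ix hn 1) (dSL hs0)).1
    rw [emb2_dSL h01, SpecialLinearGroup.diag2n_coe,
      sgnM_val, Matrix.diagonal_mul_diagonal, Matrix.diagonal_mul_diagonal]
    exact congrArg Matrix.diagonal (funext fun x => mul_comm _ _)
  have hYR : Commute Y Z := (hDR.mul_left hXR).mul_left hDR.inv_left
  have hXY : Commute X Y := (L.aA hζ hζk hq (dSL hs0) (dSL hs0)).symm
  have hXX : X * X = φ (emb2 (ix hn 0) (ix hn 1) jSL) * φ (emb2 (ix hn 0) (ix hn 1) jSL) := by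
    simp only [hX, ← map_mul]
    congr 2
    apply ext2 <;> simp [mul_apply2, dSL_coe, jSL_coe, hs, hsi]
  set z := X * Y * Z
  have hzz : z * z = D * D := by
    rw [(hXR.mul_left hYR).symm.mul_mul_mul_comm, hXY.symm.mul_mul_mul_comm,
      show Z * Z = 1 by rw [hZ, ← map_mul, sgnM_sq, map_one], mul_one, hid, ← hXX, hY]
    group
  have hz : mC (ζ z) = -1 := by
    have e1 : ζ z = levC hn (emb2 (ix hn 0) (ix hn 1) (dSL hs0)) *
        (dC hn * levC hn (emb2 (ix hn 0) (ix hn 1) (dSL hs0)) * (dC hn)⁻¹) * levC hn (sgnM R hRc) := by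
      simp only [z, hY, hX, hZ, map_mul, map_inv, L.exch, L.lev]
    rw [e1, dC_inv]
    show Plus.mat (Plus.lev n _) * Plus.mat (dEl hn * Plus.lev n _ * dEl hn) * Plus.mat (Plus.lev n _) = _
    rw [mat_dEl_conj, Plus.mat_lev, Plus.mat_lev, inv_eq_of_mul_eq_one_right (sgnM_sq (F := F) R hRc), ← map_inv,
      CfsgLib.OPlusPres.dSL_inv, emb2_dSL h01, emb2_dSL h01, SpecialLinearGroup.diag2n_coe,
      SpecialLinearGroup.diag2n_coe, sgnM_val, Matrix.diagonal_transpose, Matrix.diagonal_transpose,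
      Matrix.fromBlocks_diagonal, Matrix.fromBlocks_diagonal, Matrix.submatrix_diagonal_equiv,
      Matrix.submatrix_diagonal_equiv, Matrix.diagonal_mul_diagonal, Matrix.diagonal_mul_diagonal,
      negOne_diag]
    refine congrArg Matrix.diagonal (funext fun x => ?_)
    rcases x with x | x <;> by_cases x0 : x = ix hn 0 <;> by_cases x1 : x = ix hn 1 <;>
      by_cases x2 : x = ix hn 2
    all_goals first
      | exact absurd (x0.symm.trans x1) h01
      | exact absurd (x0.symm.trans x2) h02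
      | exact absurd (x1.symm.trans x2) h12
      | simp [R, Plus.flipPerm, Equiv.swap_apply_def, x0, x1, x2, h01, h01.symm, h02, h02.symm, h12, h12.symm,
          hsi, hs, hs0]
  have hzc := neg_mem_center L hz h2
  have hzΓ : z ∈ Subgroup.center Γ := (center_eq_comap hζ hζk L htop).ge hzc.1
  have : Finite (Subgroup.center Γ) := Nat.finite_of_card_ne_zero (by rw [hcard]; norm_num)
  refine isCyclic_of_orderOf_eq_card ⟨z, hzΓ⟩ ?_
  rw [hcard, Subgroup.orderOf_mk]
  have := Fact.mk Nat.prime_two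
  refine orderOf_eq_prime_pow (p := 2) (n := 1) ?_ ?_
  · rw [pow_one, pow_two, hzz]; exact hc
  · rw [show (2 : ℕ) ^ (1 + 1) = 2 + 2 from rfl, pow_add, pow_two, hzz]
    exact (L.sq_facts hζ hζk hq).1

end Cover

theorem gcd_two_of_odd (h2 : (2 : F) ≠ 0) : Odd (Fintype.card F) := by
  have hF : ringChar F ≠ 2 := fun h => h2 (by
    have h0 : ((ringChar F : ℕ) : F) = 0 := ringChar.Nat.cast_ringChar
    rw [h] at h0
    exact_mod_cast h0)
  exact Nat.odd_iff.2 (FiniteField.odd_card_of_char_ne_two hF)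

theorem even_card_of_two (h2 : (2 : F) = 0) : Fintype.card F % 2 = 0 := by
  have : ringChar F = 2 := by
    by_contra hne
    exact Ring.two_ne_zero hne h2
  exact FiniteField.even_card_of_char_two this

/-- In characteristic two the multiplier is trivial. -/
theorem multiplier_two (h2 : (2 : F) = 0) (hn : 4 ≤ n) (hq : n = 4 → Fintype.card F ≠ 2) {A : Type} [CommGroup A]
    [Subsingleton A] : Cfsg.HasSchurMultiplier (Cfsg.POmega F (Cfsg.quadFormPlus n F)) A := by
  have hζ : Function.Surjective (MonoidHom.id (Om n F)) := fun x => ⟨x, rfl⟩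
  have hζk : (MonoidHom.id (Om n F)).ker ≤ Subgroup.center (Om n F) := by
    rw [MonoidHom.ker_id]; exact bot_le
  have L : Lifts hn (MonoidHom.id (Om n F)) (levC hn) (dC hn) := by
    refine ⟨fun A => rfl, rfl, ?_⟩
    rw [dC_inv]
    exact Subtype.ext dEl_par
  have htop : gen (levC (F := F) hn) (dC hn) = ⊤ := by
    rw [← L.map_gen, Subgroup.map_id]
  have := (Nat.card_eq_one_iff_unique.1 (card_center_om_two h2 hn)).1
  exact hasSchurMultiplier_of_cover hζ hζk L htop (fun _ => h2) hq
    { toFun := fun _ => 1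
      invFun := fun _ => 1
      left_inv := fun _ => Subsingleton.elim _ _
      right_inv := fun _ => Subsingleton.elim _ _
      map_mul' := fun _ _ => Subsingleton.elim _ _ }

/-- In odd characteristic: a cover with all the data. -/
theorem exists_odd_cover (h2 : (2 : F) ≠ 0) (hn : 4 ≤ n) (hq : n = 4 → Fintype.card F ≠ 2) :
    ∃ (Γ : Type u) (_ : Group Γ) (ζ : Γ →* Om n F) (φ : SpecialLinearGroup (Fin n) F →* Γ) (D : Γ),
      Function.Surjective ζ ∧ ζ.ker ≤ Subgroup.center Γ ∧ Lifts hn ζ φ D ∧ gen φ D = ⊤ ∧ D * D ≠ 1 ∧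
      D * D = φ (emb2 (ix hn 0) (ix hn 1) jSL) * φ (emb2 (ix hn 0) (ix hn 1) jSL) *
        (D * (φ (emb2 (ix hn 0) (ix hn 1) jSL) * φ (emb2 (ix hn 0) (ix hn 1) jSL)) * D⁻¹) := by
  obtain ⟨φ₀, D₀, L, hc, hid⟩ := exists_cover h2 hn hq
  let P := gen φ₀ D₀
  let ζ : P →* Om n F := (prj0 n F).comp P.subtype
  refine ⟨P, inferInstance, ζ, φ₀.codRestrict P (phi_mem_gen φ₀ D₀), ⟨D₀, exch_mem_gen φ₀ D₀⟩, ?_, ?_,
    ⟨fun A => L.lev A, L.exch, Subtype.ext L.par⟩, ?_, fun h => hc (congrArg Subtype.val h),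
    Subtype.ext hid⟩
  · intro g
    obtain ⟨x, hx, rfl⟩ := L.map_gen.ge (Subgroup.mem_top g)
    exact ⟨⟨x, hx⟩, rfl⟩
  · intro x hx
    rw [Subgroup.mem_center_iff]
    intro y
    exact Subtype.ext (Subgroup.mem_center_iff.1 (prj0_central (show x.1 ∈ (prj0 n F).ker from hx)) y.1)
  · rw [eq_top_iff]
    rintro ⟨y, hy⟩ -
    induction hy using Subgroup.closure_induction with
    | mem g hg =>
      rcases hg with ⟨A, rfl⟩ | rfl
      · exact Subgroup.subset_closure (Or.inl ⟨A, rfl⟩)
      · exact Subgroup.subset_closure (Or.inr rfl)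
    | one => exact one_mem _
    | mul u v hu hv iu iv => exact mul_mem iu iv
    | inv u hu iu => exact inv_mem iu

/-- The multiplier in odd rank. -/
theorem multiplier_odd (hn : 5 ≤ n) (hodd : Odd n) :
    Cfsg.HasCyclicSchurMultiplier (Cfsg.POmega F (Cfsg.quadFormPlus n F))
      (Nat.gcd 4 (Fintype.card F ^ n - 1)) := by
  classical
  have hn4 : 4 ≤ n := by omega
  have hq : n = 4 → Fintype.card F ≠ 2 := fun h => absurd h (by omega)
  have hpos : 1 ≤ Fintype.card F ^ n := Nat.one_le_pow _ _ Fintype.card_pos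
  by_cases h2 : (2 : F) = 0
  · have hg : Nat.gcd 4 (Fintype.card F ^ n - 1) = 1 := by
      have he : Fintype.card F ^ n % 2 = 0 := by
        rw [Nat.pow_mod, even_card_of_two h2, zero_pow (by omega), Nat.zero_mod]
      exact Nat.Coprime.pow_left 2 ((Nat.Prime.coprime_iff_not_dvd Nat.prime_two).2
        (show ¬ 2 ∣ Fintype.card F ^ n - 1 by omega))
    rw [hg]
    exact multiplier_two h2 hn4 hq
  obtain ⟨Γ, _, ζ, φ, D, hζ, hζk, L, htop, hc, hid⟩ := exists_odd_cover h2 hn4 hq
  have := cyclic_center hζ hζk L htop hc hq h2 hodd hid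
  have hcard : Nat.card (Subgroup.center Γ) = Nat.gcd 4 (Fintype.card F ^ n - 1) := by
    rw [card_center_mul hζ hζk L htop, card_ker hζ hζk L htop hc hq]
    rcases pow_card_mod_four (gcd_two_of_odd h2) n with h | h
    · rw [(card_center_om_odd h2 hn4).1 ((isSquare_neg_one_pow (gcd_two_of_odd h2) n).2 h),
        Nat.gcd_eq_left (by omega : 4 ∣ Fintype.card F ^ n - 1)]
    · rw [(card_center_om_odd h2 hn4).2 (fun hs => by
          have := (isSquare_neg_one_pow (gcd_two_of_odd h2) n).1 hs
          omega), Nat.gcd_rec, show (Fintype.card F ^ n - 1) % 4 = 2 by omega]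
      decide
  rw [← hcard]
  exact hasSchurMultiplier_of_cover hζ hζk L htop (fun h => absurd h hc) hq (zmodCyclicMulEquiv this).symm

/-- The multiplier in even rank. -/
theorem multiplier_even (hn : 4 ≤ n) (hev : Even n) (hq : n = 4 → Fintype.card F ≠ 2) :
    Cfsg.HasSchurMultiplier (Cfsg.POmega F (Cfsg.quadFormPlus n F))
      (Multiplicative (ZMod (Nat.gcd 2 (Fintype.card F ^ n - 1)) × ZMod (Nat.gcd 2 (Fintype.card F ^ n - 1)))) := by
  classical
  have hpos : 1 ≤ Fintype.card F ^ n := Nat.one_le_pow _ _ Fintype.card_pos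
  by_cases h2 : (2 : F) = 0
  · have hg : Nat.gcd 2 (Fintype.card F ^ n - 1) = 1 := by
      have he : Fintype.card F ^ n % 2 = 0 := by
        rw [Nat.pow_mod, even_card_of_two h2, zero_pow (by omega), Nat.zero_mod]
      exact (Nat.Prime.coprime_iff_not_dvd Nat.prime_two).2 (by omega)
    rw [hg]
    exact multiplier_two h2 hn hq
  obtain ⟨Γ, _, ζ, φ, D, hζ, hζk, L, htop, hc, -⟩ := exists_odd_cover h2 hn hq
  have := klein_center hζ hζk L htop hc hq h2 hev
  have hg : Nat.gcd 2 (Fintype.card F ^ n - 1) = 2 := by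
    have ho : Fintype.card F ^ n % 2 = 1 := Nat.odd_iff.1 (gcd_two_of_odd h2).pow
    exact Nat.gcd_eq_left (by omega)
  rw [hg]
  obtain ⟨e⟩ := IsKleinFour.nonempty_mulEquiv (G₁ := Subgroup.center Γ) (G₂ := Multiplicative (ZMod 2 × ZMod 2))
  exact hasSchurMultiplier_of_cover hζ hζk L htop (fun h => absurd h hc) hq e

end CfsgLib.KnownA.PlusMultiplier
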