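import Cfsg.Agent.Lib.KnownA.PlusMultiplier.Cover
import Cfsg.Agent.Lib.Orth.Standard
import Mathlib.LinearAlgebra.CliffordAlgebra.Contraction

/-!
# A double cover of the commutator subgroup inside the Clifford algebra
-/

set_option autoImplicit false
set_option linter.unusedSectionVars false
set_option linter.unusedSimpArgs false

open Matrix CfsgLib.Perm.Quad.SL2 CfsgLib.SL2Pres CfsgLib.SLPres CfsgLib.Classical CfsgLib.SpPres
open CfsgLib.KnownA.StSL CfsgLib.Chevalley.SingleBond CfsgLib.OPlusPres CfsgLib.KnownA.SpMultiplier.Pairing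
open scoped commutatorElement

namespace CfsgLib.KnownA.PlusMultiplier

variable {F : Type*} [Field F] {n : ℕ}

/-- The Clifford algebra of the plus type form. -/
abbrev Cl (n : ℕ) (F : Type*) [Field F] : Type _ := CliffordAlgebra (CfsgLib.Orth.plusForm F n)

/-- The image of a basis vector. -/
noncomputable def gv (a : Fin n ⊕ Fin n) : Cl n F := CliffordAlgebra.ι _ (Pi.single a 1)

theorem gv_mul_vec (a : Fin n ⊕ Fin n) (v : Fin n ⊕ Fin n → F) :
    gv a * CliffordAlgebra.ι _ v + CliffordAlgebra.ι _ v * gv a = algebraMap F (Cl n F) (v a.swap) := by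
  rw [gv, CliffordAlgebra.ι_mul_ι_add_swap, CfsgLib.Orth.plusForm_polar]
  congr 1
  rcases a with i | i <;> simp [Pi.single_apply]

theorem gv_sq (a : Fin n ⊕ Fin n) : gv a * gv a = (0 : Cl n F) := by
  rw [gv, CliffordAlgebra.ι_sq_scalar, ← CfsgLib.Orth.plusForm_apply]
  rcases a with i | i <;> simp [Cfsg.quadFormPlus, Pi.single_apply]

theorem gv_pair (a : Fin n ⊕ Fin n) : gv a * gv a.swap + gv a.swap * gv a = (1 : Cl n F) := by
  have := gv_mul_vec (F := F) a (Pi.single a.swap 1)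
  rwa [Pi.single_eq_same, map_one] at this

theorem gv_anti {a b : Fin n ⊕ Fin n} (h : a.swap ≠ b) : gv b * gv a = -(gv a * gv b : Cl n F) := by
  have := gv_mul_vec (F := F) a (Pi.single b 1)
  rw [Pi.single_eq_of_ne h, map_zero] at this
  exact eq_neg_of_add_eq_zero_right this

/-- The product of two anticommuting basis vectors attached to a root. -/
noncomputable def rtX (a b : Fin n ⊕ Fin n) : Cl n F := gv a * gv b.swap

theorem rtX_sq {a b : Fin n ⊕ Fin n} (h : idx a ≠ idx b) : rtX a b * rtX a b = (0 : Cl n F) := by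
  obtain ⟨e1, e2, e3, e4⟩ := ne_of_idx h
  rw [rtX, mul_assoc, ← mul_assoc (gv b.swap) (gv a), gv_anti e4, neg_mul, mul_neg, mul_assoc, gv_sq,
    mul_zero, mul_zero, neg_zero]

/-- The unit lifting a root element. -/
noncomputable def rtU {a b : Fin n ⊕ Fin n} (h : idx a ≠ idx b) (t : F) : (Cl n F)ˣ where
  val := 1 + t • rtX a b
  inv := 1 - t • rtX a b
  val_inv := by
    simp [mul_sub, add_mul, smul_mul_smul_comm, rtX_sq h]
  inv_val := by
    simp [mul_add, sub_mul, smul_mul_smul_comm, rtX_sq h]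

/-- Units acting on vectors as elements of the commutator subgroup. -/
noncomputable def ext0 (n : ℕ) (F : Type*) [Field F] [Finite F] : Subgroup ((Cl n F)ˣ × Om n F) where
  carrier := {p | ∀ v, (p.1 : Cl n F) * CliffordAlgebra.ι _ v = CliffordAlgebra.ι _ (mC p.2 *ᵥ v) * (p.1 : Cl n F)}
  one_mem' v := by
    show (1 : Cl n F) * _ = CliffordAlgebra.ι _ ((1 : Matrix (Fin n ⊕ Fin n) (Fin n ⊕ Fin n) F) *ᵥ v) * 1
    rw [Matrix.one_mulVec, one_mul, mul_one]
  mul_mem' {p r} hp hr v := by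
    show (p.1 : Cl n F) * (r.1 : Cl n F) * _ = CliffordAlgebra.ι _ (mC (p.2 * r.2) *ᵥ v) * ((p.1 : Cl n F) * (r.1 : Cl n F))
    rw [mul_assoc, hr v, ← mul_assoc, hp, mul_assoc, mC_mul, Matrix.mulVec_mulVec]
  inv_mem' {p} hp v := by
    show ((p.1⁻¹ : (Cl n F)ˣ) : Cl n F) * _ = CliffordAlgebra.ι _ (mC p.2⁻¹ *ᵥ v) * ((p.1⁻¹ : (Cl n F)ˣ) : Cl n F)
    have e := hp (mC p.2⁻¹ *ᵥ v)
    rw [Matrix.mulVec_mulVec, ← mC_mul, mul_inv_cancel, show mC (1 : Om n F) = 1 from rfl,
      Matrix.one_mulVec] at e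
    rw [Units.inv_mul_eq_iff_eq_mul, ← mul_assoc, e, mul_assoc, Units.mul_inv, mul_one]

variable [Fintype F] {hn : 4 ≤ n}

/-- The projection. -/
noncomputable def prj0 (n : ℕ) (F : Type*) [Field F] [Finite F] : ext0 n F →* Om n F :=
  (MonoidHom.snd _ _).comp (ext0 n F).subtype

/-- The unit part. -/
noncomputable def unit0 (n : ℕ) (F : Type*) [Field F] [Finite F] : ext0 n F →* (Cl n F)ˣ :=
  (MonoidHom.fst _ _).comp (ext0 n F).subtype

theorem el_mulVec {a b : Fin n ⊕ Fin n} (t : F) (v : Fin n ⊕ Fin n → F) :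
    Plus.el a b t *ᵥ v = v + (t * v b) • (Pi.single a 1 : Fin n ⊕ Fin n → F) -
      (t * v a.swap) • (Pi.single b.swap 1 : Fin n ⊕ Fin n → F) := by
  have hs : ∀ (i : Fin n ⊕ Fin n) (c : F), (Pi.single i c : Fin n ⊕ Fin n → F) = c • Pi.single i 1 :=
    fun i c => by ext j; simp [Pi.single_apply]
  rw [Plus.el, Matrix.sub_mulVec, Matrix.add_mulVec, Matrix.one_mulVec, Matrix.single_mulVec, Matrix.single_mulVec]
  rw [show Function.update (0 : Fin n ⊕ Fin n → F) a (t * v b) = Pi.single a (t * v b) from rfl,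
    show Function.update (0 : Fin n ⊕ Fin n → F) b.swap (t * v a.swap) = Pi.single b.swap (t * v a.swap) from rfl,
    ← hs, ← hs]

theorem rtU_mem {a b : Fin n ⊕ Fin n} (h : idx a ≠ idx b) (t : F) :
    (rtU h t, rt hn a b t) ∈ ext0 n F := by
  intro v
  show (1 + t • rtX a b) * _ = CliffordAlgebra.ι _ (mC (rt hn a b t) *ᵥ v) * (1 + t • rtX a b)
  rw [mC_rt hn h, el_mulVec, map_sub, map_add, LinearMap.map_smul, LinearMap.map_smul]
  obtain ⟨e1, e2, e3, e4⟩ := ne_of_idx h
  change _ = (CliffordAlgebra.ι _ v + (t * v b) • gv a - (t * v a.swap) • gv b.swap) * _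
  set w := CliffordAlgebra.ι (CfsgLib.Orth.plusForm F n) v
  have hc : gv b.swap * w + w * gv b.swap = algebraMap F (Cl n F) (v b) := by
    rw [gv_mul_vec, Sum.swap_swap]
  have hXw : rtX a b * w = w * rtX a b + v b • gv a - v a.swap • gv b.swap := by
    rw [rtX, mul_assoc, eq_sub_of_add_eq hc, mul_sub, ← mul_assoc, ← mul_assoc,
      show gv a * w = algebraMap F (Cl n F) (v a.swap) - w * gv a from eq_sub_of_add_eq (gv_mul_vec a v),
      sub_mul, ← Algebra.commutes, ← Algebra.smul_def, ← Algebra.smul_def]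
    abel
  have z1 : gv a * rtX a b = (0 : Cl n F) := by rw [rtX, ← mul_assoc, gv_sq, zero_mul]
  have z2 : gv b.swap * rtX a b = (0 : Cl n F) := by
    rw [rtX, ← mul_assoc, gv_anti e4, neg_mul, mul_assoc, gv_sq, mul_zero, neg_zero]
  simp only [add_mul, sub_mul, mul_add, one_mul, mul_one, smul_mul_assoc, mul_smul_comm, hXw, z1, z2, smul_zero,
    add_zero, sub_zero, smul_add, smul_sub, smul_smul]
  abel

/-- The lift of a root element. -/
noncomputable def rtL (hn : 4 ≤ n) {a b : Fin n ⊕ Fin n} (h : idx a ≠ idx b) (t : F) : ext0 n F :=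
  ⟨(rtU h t, rt hn a b t), rtU_mem h t⟩

theorem rtL_mix {a x b : Fin n ⊕ Fin n} (h1 : idx a ≠ idx x) (h2 : idx x ≠ idx b) (h3 : idx a ≠ idx b) (t u : F) :
    ⁅rtL hn h1 t, rtL hn h2 u⁆ = rtL hn h3 (t * u) := by
  suffices H : rtU h1 t * rtU h2 u = rtU h3 (t * u) * (rtU h2 u * rtU h1 t) by
    have H' : rtL hn h1 t * rtL hn h2 u = rtL hn h3 (t * u) * (rtL hn h2 u * rtL hn h1 t) := by
      refine Subtype.ext (Prod.ext H ?_)
      show rt hn a x t * rt hn x b u = rt hn a b (t * u) * (rt hn x b u * rt hn a x t)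
      rw [← rt_mix hn h1 h2 h3 t u, commutatorElement_def]
      group
    rw [commutatorElement_def, H']
    group
  apply Units.ext
  show (1 + t • rtX a x) * (1 + u • rtX x b) = (1 + (t * u) • rtX a b) * ((1 + u • rtX x b) * (1 + t • rtX a x))
  obtain ⟨p1, p2, p3, p4⟩ := ne_of_idx h1
  obtain ⟨q1, q2, q3, q4⟩ := ne_of_idx h2
  obtain ⟨r1, r2, r3, r4⟩ := ne_of_idx h3
  have hxy : rtX a x * rtX x b = rtX a b - gv a * gv x * (gv x.swap * gv b.swap : Cl n F) := by
    rw [eq_sub_iff_add_eq]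
    calc rtX a x * rtX x b + gv a * gv x * (gv x.swap * gv b.swap)
        = gv a * (gv x * gv x.swap + gv x.swap * gv x) * (gv b.swap : Cl n F) := by simp only [rtX]; noncomm_ring
      _ = rtX a b := by rw [gv_pair, mul_one, rtX]
  have hyx : rtX x b * rtX a x = -(gv a * gv x * (gv x.swap * gv b.swap) : Cl n F) := by
    calc rtX x b * rtX a x = gv x * (gv b.swap * gv a) * (gv x.swap : Cl n F) := by simp only [rtX, mul_assoc]
      _ = -(gv x * gv a * (gv b.swap * gv x.swap)) := by rw [gv_anti r4]; noncomm_ring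
      _ = _ := by rw [gv_anti p2, gv_anti (show x.swap.swap ≠ b.swap by rw [Sum.swap_swap]; exact q3)]; noncomm_ring
  have z1 : rtX a b * rtX x b = (0 : Cl n F) := by
    calc rtX a b * rtX x b = gv a * (gv b.swap * gv x) * (gv b.swap : Cl n F) := by simp only [rtX, mul_assoc]
      _ = 0 := by rw [gv_anti q4, mul_neg, neg_mul, mul_assoc, mul_assoc, gv_sq, mul_zero, mul_zero, neg_zero]
  have z2 : rtX a b * rtX a x = (0 : Cl n F) := by
    calc rtX a b * rtX a x = gv a * (gv b.swap * gv a) * (gv x.swap : Cl n F) := by simp only [rtX, mul_assoc]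
      _ = 0 := by rw [gv_anti r4, mul_neg, neg_mul, ← mul_assoc, gv_sq, zero_mul, zero_mul, neg_zero]
  have z3 : rtX a b * (rtX x b * rtX a x) = (0 : Cl n F) := by rw [← mul_assoc, z1, zero_mul]
  simp only [add_mul, mul_add, one_mul, mul_one, smul_mul_assoc, mul_smul_comm, smul_smul, hxy, z1, z2, z3,
    smul_zero, add_zero, smul_sub]
  rw [hyx]
  module

theorem prj0_surjective (hn : 4 ≤ n) : Function.Surjective (prj0 n F) := by
  have hr : ∀ {a b : Fin n ⊕ Fin n}, idx a ≠ idx b → ∀ t, rt hn a b t ∈ (prj0 n F).range :=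
    fun h t => ⟨rtL hn h t, rfl⟩
  have hL : ∀ A, levC hn A ∈ (prj0 n F).range := fun A => by
    induction A using CfsgLib.Classical.sl_transvection_induction with
    | h1 => rw [map_one]; exact one_mem _
    | htransvec i j h t => rw [levC_tv hn h]; exact hr (a := Sum.inl i) (b := Sum.inl j) h t
    | hmul A B hA hB => rw [map_mul]; exact mul_mem hA hB
  have h01 := ix_ne hn (show (0 : Fin 4) ≠ 1 by decide)
  have hA : ∀ z, fA (F := F) hn z ∈ (prj0 n F).range := by
    have : ((prj0 n F).range).comap (fA hn) = ⊤ := eq_top_of_up_low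
      (fun t => by rw [Subgroup.mem_comap, fA_up]; exact hr (a := Sum.inl (ix hn 0)) (b := Sum.inr (ix hn 1)) h01 t) fun t => by
        have e : fA hn (low t) = rt hn (Sum.inr (ix hn 1)) (Sum.inl (ix hn 0)) t := by
          refine mC_inj ?_
          rw [mC_rt hn (show idx (Sum.inr (ix hn 1)) ≠ idx (Sum.inl (ix hn 0)) from h01.symm),
            fA_apply, dC_inv, el_low]
          exact mat_dEl_low t
        rw [Subgroup.mem_comap, e]
        exact hr (a := Sum.inr (ix hn 1)) (b := Sum.inl (ix hn 0)) h01.symm t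
    exact fun z => this.ge (Subgroup.mem_top z)
  have L : Lifts hn (MonoidHom.id (Om n F)) (levC hn) (dC hn) := by
    refine ⟨fun A => rfl, rfl, ?_⟩
    rw [dC_inv]
    exact Subtype.ext dEl_par
  have hd : dC hn ∈ (prj0 n F).range := by
    have e := L.par
    rw [← fA_apply] at e
    rw [show dC hn = (levC hn (emb2 (ix hn 1) (ix hn 2) jSL))⁻¹ *
      (levC hn (shiftW hn) * fA hn jSL * (levC hn (shiftW hn))⁻¹) by rw [← e, inv_mul_cancel_left]]
    exact mul_mem (inv_mem (hL _)) (mul_mem (mul_mem (hL _) (hA _)) (inv_mem (hL _)))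
  rw [← MonoidHom.range_eq_top, eq_top_iff, ← L.map_gen, gen, Subgroup.map_id, Subgroup.closure_le]
  rintro g (⟨A, rfl⟩ | rfl)
  · exact hL A
  · exact hd

theorem prj0_central : (prj0 n F).ker ≤ Subgroup.center (ext0 n F) := by
  rintro ⟨⟨u, g⟩, hu⟩ hg
  obtain rfl : g = 1 := hg
  have hι : ∀ v, Commute (u : Cl n F) (CliffordAlgebra.ι _ v) := fun v => by
    have e := hu v
    rw [show mC (1 : Om n F) = 1 from rfl, Matrix.one_mulVec] at e
    exact e
  have hall : ∀ x : Cl n F, Commute (u : Cl n F) x := fun x => by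
    induction x using CliffordAlgebra.induction with
    | algebraMap r => exact (Algebra.commutes r (u : Cl n F)).symm
    | ι v => exact hι v
    | mul a b ha hb => exact ha.mul_right hb
    | add a b ha hb => exact ha.add_right hb
  rw [Subgroup.mem_center_iff]
  rintro ⟨⟨w, k⟩, -⟩
  refine Subtype.ext (Prod.ext (Units.ext ?_) ?_)
  · exact (hall w).eq.symm
  · show k * 1 = 1 * k
    rw [mul_one, one_mul]

variable {φ : SpecialLinearGroup (Fin n) F →* ext0 n F} {D : ext0 n F} (L : Lifts hn (prj0 n F) φ D)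
include L

theorem Lifts.phi_tv {i j : Fin n} (h : i ≠ j) (t : F) :
    φ (SpecialLinearGroup.transvection h t) =
      rtL hn (show idx (Sum.inl i) ≠ idx (Sum.inl j) from h) t := by
  obtain ⟨k, hk⟩ : ∃ k, k ∉ ({i, j} : Finset (Fin n)) := by
    by_contra hk
    push Not at hk
    have := Finset.card_le_card (fun x (_ : x ∈ Finset.univ) => hk x)
    have := Finset.card_le_two (a := i) (b := j)
    rw [Finset.card_univ, Fintype.card_fin] at *
    omega
  simp only [Finset.mem_insert, Finset.mem_singleton, not_or] at hk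
  obtain ⟨hki, hkj⟩ := hk
  rw [← mul_one t, ← commutator_transvection (Ne.symm hki) hkj h t 1, map_commutatorElement,
    comm_congr prj0_central (a' := rtL hn (show idx (Sum.inl i) ≠ idx (Sum.inl k) from Ne.symm hki) t)
      (b' := rtL hn (show idx (Sum.inl k) ≠ idx (Sum.inl j) from hkj) 1)
      (by rw [L.lev, levC_tv]; rfl) (by rw [L.lev, levC_tv]; rfl), rtL_mix]

theorem Lifts.conj_tv {i j : Fin n} (h : i ≠ j) (t : F) :
    D * φ (SpecialLinearGroup.transvection h t) * D⁻¹ =
      rtL hn (show idx (dX hn (Sum.inl i)) ≠ idx (dX hn (Sum.inl j)) by rw [idx_dX, idx_dX]; exact h) t := by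
  obtain ⟨k, hk⟩ : ∃ k, k ∉ ({i, j} : Finset (Fin n)) := by
    by_contra hk
    push Not at hk
    have := Finset.card_le_card (fun x (_ : x ∈ Finset.univ) => hk x)
    have := Finset.card_le_two (a := i) (b := j)
    rw [Finset.card_univ, Fintype.card_fin] at *
    omega
  simp only [Finset.mem_insert, Finset.mem_singleton, not_or] at hk
  obtain ⟨hki, hkj⟩ := hk
  rw [← mul_one t, ← commutator_transvection (Ne.symm hki) hkj h t 1, map_commutatorElement,
    conjugate_commutatorElement,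
    comm_congr prj0_central (a' := rtL hn (a := dX hn (Sum.inl i)) (b := dX hn (Sum.inl k))
        (by rw [idx_dX, idx_dX]; exact Ne.symm hki) t)
      (b' := rtL hn (a := dX hn (Sum.inl k)) (b := dX hn (Sum.inl j)) (by rw [idx_dX, idx_dX]; exact hkj) 1)
      (by
        simp only [map_mul, map_inv, L.exch, L.lev, levC_tv]
        exact dC_rt hn (show idx (Sum.inl i) ≠ idx (Sum.inl k) from Ne.symm hki) t)
      (by
        simp only [map_mul, map_inv, L.exch, L.lev, levC_tv]
        exact dC_rt hn (show idx (Sum.inl k) ≠ idx (Sum.inl j) from hkj) 1), rtL_mix]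

omit L in
/-- The square of a Weyl lift. -/
theorem weyl_sq {a b : Fin n ⊕ Fin n} (h : idx a ≠ idx b) :
    let A : Cl n F := rtX a b
    let B : Cl n F := rtX b a
    (1 + A) * (1 + (-1 : F) • B) * (1 + A) * ((1 + A) * (1 + (-1 : F) • B) * (1 + A)) =
      1 - 2 • (A * B + B * A) := by
  intro A B
  have aba : ∀ {a b : Fin n ⊕ Fin n}, idx a ≠ idx b → rtX a b * rtX b a * rtX a b = (rtX a b : Cl n F) := by
    intro a b h
    obtain ⟨e1, e2, e3, e4⟩ := ne_of_idx h
    have tri : ∀ x : Fin n ⊕ Fin n, gv x * gv x.swap * gv x = (gv x : Cl n F) := fun x => by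
      have := congrArg (gv x * ·) (gv_pair (F := F) x)
      simp only [mul_add, mul_one, ← mul_assoc, gv_sq, zero_mul, zero_add] at this
      exact this
    calc rtX a b * rtX b a * rtX a b
        = gv a * (gv b.swap * gv b) * gv a.swap * gv a * (gv b.swap : Cl n F) := by simp only [rtX, mul_assoc]
      _ = gv a * gv a.swap * (gv b.swap * gv b) * gv a * gv b.swap := by
        rw [mul_assoc (gv a) _ (gv a.swap), mul_assoc (gv b.swap) (gv b) (gv a.swap),
          gv_anti (show a.swap.swap ≠ b by rw [Sum.swap_swap]; exact e1), mul_neg, ← mul_assoc (gv b.swap),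
          gv_anti (show a.swap.swap ≠ b.swap by rw [Sum.swap_swap]; exact e3), neg_mul, neg_neg]
        simp only [mul_assoc]
      _ = gv a * gv a.swap * gv a * (gv b.swap * gv b * gv b.swap) := by
        rw [mul_assoc (gv a * gv a.swap) _ (gv a), mul_assoc (gv b.swap) (gv b) (gv a),
          gv_anti e2, mul_neg, ← mul_assoc (gv b.swap), gv_anti e4, neg_mul, neg_neg]
        simp only [mul_assoc]
      _ = rtX a b := by
        rw [tri]
        have := tri b.swap
        rw [Sum.swap_swap] at this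
        rw [this, rtX]
  have hAA : A * A = 0 := rtX_sq h
  have hBB : B * B = 0 := rtX_sq h.symm
  have hABA : A * B * A = A := aba h
  have hBAB : B * A * B = B := aba h.symm
  rw [show (-1 : F) • B = -B by rw [neg_smul, one_smul]]
  have t1 : ∀ x : Cl n F, A * (A * x) = 0 := fun x => by rw [← mul_assoc, hAA, zero_mul]
  have t2 : ∀ x : Cl n F, B * (B * x) = 0 := fun x => by rw [← mul_assoc, hBB, zero_mul]
  have t3 : ∀ x : Cl n F, A * (B * (A * x)) = A * x := fun x => by rw [← mul_assoc, ← mul_assoc, hABA]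
  have t4 : ∀ x : Cl n F, B * (A * (B * x)) = B * x := fun x => by rw [← mul_assoc, ← mul_assoc, hBAB]
  have t3' : A * (B * A) = A := by rw [← mul_assoc, hABA]
  have t4' : B * (A * B) = B := by rw [← mul_assoc, hBAB]
  simp only [mul_add, add_mul, mul_one, one_mul, neg_mul, mul_neg, mul_assoc, t1, t2, t3, t4, t3', t4', hAA, hBB,
    neg_neg, mul_zero, neg_zero, add_zero, zero_add]
  abel

theorem Lifts.unit_a (b₀ b₁ : Fin n ⊕ Fin n) (ψ : SL F →* ext0 n F) (h : idx b₀ ≠ idx b₁)
    (hu : ∀ t, ψ (up t) = rtL hn h t) (hl : ∀ t, ψ (low t) = rtL hn h.symm t) :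
    (unit0 n F (ψ jSL * ψ jSL) : Cl n F) =
      1 - 2 • (rtX b₀ b₁ * rtX b₁ b₀ + rtX b₁ b₀ * rtX b₀ b₁) := by
  have ej : (jSL : SL F) = up 1 * low (-1) * up 1 := by
    apply ext2 <;> simp [mul_apply2, jSL_coe, up_val, low_val]
  rw [ej, map_mul ψ, map_mul ψ, hu, hl]
  show (1 + (1 : F) • rtX b₀ b₁) * (1 + (-1 : F) • rtX b₁ b₀) * (1 + (1 : F) • rtX b₀ b₁) *
    ((1 + (1 : F) • rtX b₀ b₁) * (1 + (-1 : F) • rtX b₁ b₀) * (1 + (1 : F) • rtX b₀ b₁)) = _
  rw [one_smul]
  exact weyl_sq h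

/-- The conjugate of the squared Weyl lift is its negative. -/
theorem Lifts.unit_neg :
    (unit0 n F (D * (φ (emb2 (ix hn 0) (ix hn 1) jSL) * φ (emb2 (ix hn 0) (ix hn 1) jSL)) * D⁻¹) : Cl n F) =
      -(unit0 n F (φ (emb2 (ix hn 0) (ix hn 1) jSL) * φ (emb2 (ix hn 0) (ix hn 1) jSL)) : Cl n F) := by
  have h01 := ix_ne hn (show (0 : Fin 4) ≠ 1 by decide)
  set a : Fin n ⊕ Fin n := Sum.inl (ix hn 0)
  set b : Fin n ⊕ Fin n := Sum.inl (ix hn 1)
  have hab : idx a ≠ idx b := h01
  have hab' : idx a ≠ idx b.swap := h01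
  have d0 : dX hn a = a := dX_out hn (show Out hn (idx a) from out_zero hn)
  have d1 : dX hn b = b.swap := dX_in hn (Or.inl rfl)
  have rl : ∀ {x y x' y' : Fin n ⊕ Fin n} (h : idx x ≠ idx y) (h' : idx x' ≠ idx y'), x = x' → y = y' →
      ∀ t, rtL hn h t = rtL (F := F) hn h' t := by
    rintro x y _ _ h h' rfl rfl t; rfl
  set ψ := φ.comp (emb2 (ix hn 0) (ix hn 1))
  set ψ' := (MulAut.conj D).toMonoidHom.comp ψ
  have e1 := L.unit_a a b ψ hab (fun t => by
    show φ (emb2 _ _ (up t)) = _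
    rw [emb2_up h01, L.phi_tv]) (fun t => by
    show φ (emb2 _ _ (low t)) = _
    rw [emb2_low h01, L.phi_tv])
  have e2 := L.unit_a a b.swap ψ' hab' (fun t => by
    show D * φ (emb2 _ _ (up t)) * D⁻¹ = _
    rw [emb2_up h01, L.conj_tv]
    exact rl _ _ d0 d1 t) (fun t => by
    show D * φ (emb2 _ _ (low t)) * D⁻¹ = _
    rw [emb2_low h01, L.conj_tv]
    exact rl _ _ d1 d0 t)
  have e2' : (unit0 n F (D * (ψ jSL * ψ jSL) * D⁻¹) : Cl n F) = unit0 n F (ψ' jSL * ψ' jSL) := by
    congr 2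
    show _ = D * ψ jSL * D⁻¹ * (D * ψ jSL * D⁻¹)
    group
  refine e2'.trans (e2.trans ?_)
  refine Eq.trans ?_ (congrArg Neg.neg e1).symm
  obtain ⟨n1, n2, n3, n4⟩ := ne_of_idx hab
  have move : ∀ {y x z : Fin n ⊕ Fin n}, x.swap ≠ y → z.swap ≠ y →
      gv y * (gv x * gv z) = (gv x * gv z * gv y : Cl n F) := by
    intro y x z h1 h2
    rw [← mul_assoc, gv_anti h1, neg_mul, mul_assoc, gv_anti h2, mul_neg, neg_neg, mul_assoc]
  have key : rtX a b * rtX b a + rtX b a * rtX a b + (rtX a b.swap * rtX b.swap a + rtX b.swap a * rtX a b.swap) =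
      (1 : Cl n F) := by
    have k1 : gv b * gv a.swap * (gv a * gv b.swap) = (gv a.swap * gv a * (gv b * gv b.swap) : Cl n F) := by
      rw [← mul_assoc (gv a.swap * gv a), ← move (y := b) (x := a.swap) (z := a) (by rw [Sum.swap_swap]; exact n1) n2]
      simp only [mul_assoc]
    have k2 : gv b.swap * gv a.swap * (gv a * gv b) = (gv a.swap * gv a * (gv b.swap * gv b) : Cl n F) := by
      rw [← mul_assoc (gv a.swap * gv a), ← move (y := b.swap) (x := a.swap) (z := a) (by rw [Sum.swap_swap]; exact n3) n4]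
      simp only [mul_assoc]
    simp only [rtX, Sum.swap_swap]
    calc gv a * gv b.swap * (gv b * gv a.swap) + gv b * gv a.swap * (gv a * gv b.swap) +
          (gv a * gv b * (gv b.swap * gv a.swap) + gv b.swap * gv a.swap * (gv a * gv b))
        = gv a * (gv b * gv b.swap + gv b.swap * gv b) * gv a.swap +
            gv a.swap * gv a * ((gv b * gv b.swap + gv b.swap * gv b) : Cl n F) := by
          rw [k1, k2]; noncomm_ring
      _ = 1 := by rw [gv_pair, mul_one, mul_one, gv_pair]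
  rw [← eq_sub_iff_add_eq'] at key
  rw [key]
  noncomm_ring

omit L in
/-- In odd characteristic the commutator subgroup has a perfect double cover with the lifted exchange. -/
theorem exists_cover (h2 : (2 : F) ≠ 0) (hn : 4 ≤ n) (hq : n = 4 → Fintype.card F ≠ 2) :
    ∃ φ : SpecialLinearGroup (Fin n) F →* ext0 n F, ∃ D, Lifts hn (prj0 n F) φ D ∧ D * D ≠ 1 ∧
      D * D = φ (emb2 (ix hn 0) (ix hn 1) jSL) * φ (emb2 (ix hn 0) (ix hn 1) jSL) *
        (D * (φ (emb2 (ix hn 0) (ix hn 1) jSL) * φ (emb2 (ix hn 0) (ix hn 1) jSL)) * D⁻¹) := by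
  obtain ⟨φ, D, L⟩ := exists_lifts (hn := hn) (prj0_surjective hn) prj0_central hq
  set a2 := φ (emb2 (ix hn 0) (ix hn 1) jSL) * φ (emb2 (ix hn 0) (ix hn 1) jSL) with ha2
  have h4 : a2 * a2 = 1 := by
    simp only [ha2, ← map_mul]
    rw [show (jSL : SL F) * jSL * (jSL * jSL) = 1 by apply ext2 <;> simp [mul_apply2, jSL_coe], map_one, map_one]
  have hu : unit0 n F (D * a2 * D⁻¹) = -unit0 n F a2 := Units.ext L.unit_neg
  have hD : unit0 n F (D * D) = -1 := by
    rw [L.sq_eq (prj0_surjective hn) prj0_central hq, ← ha2, map_mul, map_mul, map_mul, map_inv, hu, mul_neg,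
      inv_mul_cancel, mul_neg, mul_one, neg_mul, map_inv, mul_inv_cancel]
  refine ⟨φ, D, L, fun h => ?_, ?_⟩
  · rw [h, map_one] at hD
    have : Invertible (2 : F) := invertibleOfNonzero h2
    have e : algebraMap F (Cl n F) 2 = algebraMap F (Cl n F) 0 := by
      rw [map_zero, map_ofNat, ← one_add_one_eq_two]
      exact eq_neg_iff_add_eq_zero.1 (congrArg Units.val hD)
    exact h2 ((algebraMap F (Cl n F)).injective e)
  · refine Subtype.ext (Prod.ext ?_ ?_)
    · show unit0 n F (D * D) = unit0 n F (a2 * (D * a2 * D⁻¹))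
      rw [hD, map_mul, hu, mul_neg, ← map_mul, h4, map_one]
    · show prj0 n F (D * D) = prj0 n F (a2 * (D * a2 * D⁻¹))
      have hy : dC hn * prj0 n F a2 * (dC hn)⁻¹ = prj0 n F a2 := by
        refine mC_inj ?_
        simp only [ha2, ← map_mul, L.lev]
        rw [show (jSL : SL F) * jSL = dSL (neg_ne_zero.2 (one_ne_zero' F)) from
          (jj_dg).trans (by apply ext2 <;> simp [dg_val, dSL_coe]),
          (dC_sign hn (ix_ne hn (show (0 : Fin 4) ≠ 1 by decide))).eq, mul_inv_cancel_right]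
      simp only [map_mul, map_inv, L.exch, dC_sq, hy]
      rw [← map_mul, h4, map_one]

end CfsgLib.KnownA.PlusMultiplier
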