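import Cfsg.Agent.Lib.KnownA.PlusMultiplier.Rels

/-!
# Central extensions of the commutator subgroup are governed by the square of the exchange
-/

set_option autoImplicit false
set_option linter.unusedSectionVars false

open Matrix CfsgLib.Perm.Quad.SL2 CfsgLib.SL2Pres CfsgLib.SLPres CfsgLib.Classical CfsgLib.SpPres
open CfsgLib.KnownA.StSL CfsgLib.Chevalley.SingleBond CfsgLib.OPlusPres CfsgLib.KnownA.SpMultiplier.Pairing

namespace CfsgLib.KnownA.PlusMultiplier

universe uE uΓ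

variable {F : Type*} [Field F] [Fintype F] {n : ℕ} {hn : 4 ≤ n} {E : Type uE} [Group E]

/-- The group generated by the lifts. -/
def gen (φ : SpecialLinearGroup (Fin n) F →* E) (D : E) : Subgroup E :=
  Subgroup.closure ((φ.range : Set E) ∪ {D})

theorem phi_mem_gen (φ : SpecialLinearGroup (Fin n) F →* E) (D : E) (A : SpecialLinearGroup (Fin n) F) :
    φ A ∈ gen φ D := Subgroup.subset_closure (Or.inl ⟨A, rfl⟩)

theorem exch_mem_gen (φ : SpecialLinearGroup (Fin n) F →* E) (D : E) : D ∈ gen φ D :=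
  Subgroup.subset_closure (Or.inr rfl)

variable {ξ : E →* Om n F} (hs : Function.Surjective ξ) (hk : ξ.ker ≤ Subgroup.center E)
  {φ : SpecialLinearGroup (Fin n) F →* E} {D : E} (L : Lifts hn ξ φ D)
include L

omit hk hs in
theorem Lifts.ξ_sq : ξ (D * D) = 1 := by rw [map_mul, L.exch, dC_sq]

include hk hs

/-- The square of the exchange has order at most two, and is trivial in characteristic two. -/
theorem Lifts.sq_facts (hq : n = 4 → Fintype.card F ≠ 2) :
    D * D * (D * D) = 1 ∧ ((2 : F) = 0 → D * D = 1) := by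
  set a := φ (emb2 (ix hn 0) (ix hn 1) (jSL : SL F)) with ha
  set W := φ (shiftW (F := F) hn) with hW
  set J := φ (emb2 (ix hn 1) (ix hn 2) (jSL : SL F)) with hJ
  set N := W * (D * a * D⁻¹) * W⁻¹ with hN
  have hJW : J = W * a * W⁻¹ := by rw [hJ, hW, ha, ← map_inv, ← map_mul, ← map_mul, shiftW_conj_emb2]
  have hc : Commute J N := by
    rw [hJW, hN]
    exact (Commute.conj_iff W).2 (L.aA hs hk hq jSL jSL).symm
  have hD : D = J⁻¹ * N := by rw [eq_inv_mul_iff_mul_eq]; exact L.par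
  have hsq : D * D = (J * J)⁻¹ * (N * N) := by
    conv_lhs => rw [hD]
    rw [hc.inv_left.symm.mul_mul_mul_comm, ← _root_.mul_inv_rev]
  have hNN : N * N = W * (D * (a * a) * D⁻¹) * W⁻¹ := by rw [hN]; group
  have hJJ : J * J = W * (a * a) * W⁻¹ := by rw [hJW]; group
  have h4 : a * a * (a * a) = 1 := by
    simp only [ha, ← map_mul]
    rw [show (jSL : SL F) * jSL * (jSL * jSL) = 1 by apply ext2 <;> simp [mul_apply2, jSL_coe], map_one, map_one]
  refine ⟨?_, fun h2 => ?_⟩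
  · have hc2 : Commute (J * J) (N * N) := (hc.mul_right hc).mul_left (hc.mul_right hc)
    rw [hsq, (hc2.inv_left.symm).mul_mul_mul_comm, ← _root_.mul_inv_rev]
    have e1 : J * J * (J * J) = 1 := by
      calc J * J * (J * J) = W * (a * a * (a * a)) * W⁻¹ := by rw [hJJ]; group
        _ = 1 := by rw [h4]; group
    have e2 : N * N * (N * N) = 1 := by
      calc N * N * (N * N) = W * (D * (a * a * (a * a)) * D⁻¹) * W⁻¹ := by rw [hNN]; group
        _ = 1 := by rw [h4]; group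
    rw [e1, e2, inv_one, one_mul]
  · have hn1 : (-1 : F) = 1 := by linear_combination (-1 : F) * h2
    have h2' : a * a = 1 := by
      rw [ha, ← map_mul, ← map_mul,
        show (jSL : SL F) * jSL = 1 by apply ext2 <;> simp [mul_apply2, jSL_coe, hn1], map_one, map_one]
    rw [hsq, hNN, hJJ, h2']
    group

/-- The square of the exchange, computed in the two exchanged rank one subgroups. -/
theorem Lifts.sq_eq (hq : n = 4 → Fintype.card F ≠ 2) :
    D * D = φ (shiftW hn) *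
      ((φ (emb2 (ix hn 0) (ix hn 1) jSL) * φ (emb2 (ix hn 0) (ix hn 1) jSL))⁻¹ *
        (D * (φ (emb2 (ix hn 0) (ix hn 1) jSL) * φ (emb2 (ix hn 0) (ix hn 1) jSL)) * D⁻¹)) *
      (φ (shiftW hn))⁻¹ := by
  have hJW : φ (emb2 (ix hn 1) (ix hn 2) (jSL : SL F)) =
      φ (shiftW hn) * φ (emb2 (ix hn 0) (ix hn 1) jSL) * (φ (shiftW hn))⁻¹ := by
    rw [← map_inv, ← map_mul, ← map_mul, shiftW_conj_emb2]
  set a := φ (emb2 (ix hn 0) (ix hn 1) (jSL : SL F))
  set W := φ (shiftW (F := F) hn)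
  have hc : Commute a (D * a * D⁻¹) := (L.aA hs hk hq jSL jSL).symm
  have hD : D = W * (a⁻¹ * (D * a * D⁻¹)) * W⁻¹ := by
    have e : W * a * W⁻¹ * D = W * (D * a * D⁻¹) * W⁻¹ := hJW ▸ L.par
    calc D = (W * a * W⁻¹)⁻¹ * (W * a * W⁻¹ * D) := by group
      _ = _ := by rw [e]; group
  calc D * D = W * (a⁻¹ * (D * a * D⁻¹)) * W⁻¹ * (W * (a⁻¹ * (D * a * D⁻¹)) * W⁻¹) := by rw [← hD]
    _ = W * (a⁻¹ * ((D * a * D⁻¹) * a⁻¹) * (D * a * D⁻¹)) * W⁻¹ := by group
    _ = _ := by rw [hc.inv_left.symm.eq]; group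

/-- The lifts generate a group over which the isometries have a kernel of order at most two. -/
theorem Lifts.ker_le (hq : n = 4 → Fintype.card F ≠ 2) {x : E} (hx : x ∈ gen φ D) (h1 : ξ x = 1) :
    x ∈ Subgroup.zpowers (D * D) := by
  let P := gen φ D
  let c : P := ⟨D * D, mul_mem (exch_mem_gen φ D) (exch_mem_gen φ D)⟩
  let N := Subgroup.zpowers c
  have : N.Normal := by
    refine ⟨fun y hy g => ?_⟩
    obtain ⟨k, rfl⟩ := Subgroup.mem_zpowers_iff.1 hy
    have hcc : Commute (c ^ k) g := Commute.zpow_left (Subtype.ext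
      (central_of_one hk L.ξ_sq g.1).eq : Commute c g) k
    rw [← hcc.eq, mul_inv_cancel_right]
    exact ⟨k, rfl⟩
  let mk := QuotientGroup.mk' N
  let φP : SpecialLinearGroup (Fin n) F →* P := φ.codRestrict P (phi_mem_gen φ D)
  let φQ := mk.comp φP
  let dQ := mk ⟨D, exch_mem_gen φ D⟩
  have hmk : ∀ {u v : P}, u.1 = v.1 → mk u = mk v := fun e => congrArg mk (Subtype.ext e)
  have dd : dQ * dQ = 1 := by
    rw [← map_mul]
    exact (QuotientGroup.eq_one_iff _).2 ⟨1, (zpow_one c).trans rfl⟩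
  have dinv : dQ⁻¹ = dQ := inv_eq_of_mul_eq_one_right dd
  have hy : ∀ a b t, a ≠ b → ∃ y : P, y.1 = yTr φ a b t ∧ yTr φQ a b t = mk y := fun a b t h =>
    ⟨φP (SpecialLinearGroup.transvection h t), by rw [yTr_eq φ h]; rfl, yTr_eq φQ h t⟩
  have hconj : ∀ u : P, dQ * mk u * dQ = mk (⟨D, exch_mem_gen φ D⟩ * u * ⟨D, exch_mem_gen φ D⟩⁻¹) := fun u => by
    conv_lhs => arg 2; rw [← dinv]
    simp only [dQ, map_mul, map_inv]
  have R : ORel hn φQ dQ := by
    refine ⟨dd, fun a b h ha hb t => ?_, fun z => ?_, ?_, fun z z' => ?_, fun z a b h ha hb t => ?_⟩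
    · obtain ⟨y, e1, e2⟩ := hy a b t h
      rw [e2]
      show dQ * mk y = mk y * dQ
      rw [← map_mul, ← map_mul]
      refine hmk ?_
      show D * y.1 = y.1 * D
      rw [e1]
      exact L.cK hs hk hq h ha hb t
    · exact (hconj _).trans (hmk (L.flip hs hk hq z))
    · show mk _ * dQ = mk _ * (dQ * mk _ * dQ) * (mk _)⁻¹
      rw [hconj, ← map_inv, ← map_mul, ← map_mul, ← map_mul]
      exact hmk L.par
    · show Commute (dQ * mk _ * dQ) (mk _)
      rw [hconj]
      exact (Commute.map (Subtype.ext (L.aA hs hk hq z z').eq) mk)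
    · obtain ⟨y, e1, e2⟩ := hy a b t h
      show Commute (dQ * mk _ * dQ) _
      rw [hconj, e2]
      refine Commute.map (Subtype.ext ?_) mk
      show D * φ _ * D⁻¹ * y.1 = y.1 * (D * φ _ * D⁻¹)
      rw [e1]
      exact (L.aL hs hk hq z h ha hb t).eq
  let π : P ⧸ N →* ↥(Plus.O n F) := QuotientGroup.lift N
    ((commutator ↥(Plus.O n F)).subtype.comp (ξ.comp P.subtype)) (by
      rw [Subgroup.zpowers_le, MonoidHom.mem_ker]
      show (ξ (D * D)).1 = 1
      rw [L.ξ_sq]; rfl)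
  have hπφ : ∀ A, π (φQ A) = Plus.lev n A := fun A => by
    show (ξ (φ A)).1 = _
    rw [L.lev]; rfl
  have hπd : π dQ = dEl hn := by
    show (ξ D).1 = _
    rw [L.exch]; rfl
  have hP : Subgroup.closure ((φQ.range : Set (P ⧸ N)) ∪ {dQ}) = ⊤ := by
    rw [eq_top_iff]
    rintro q -
    obtain ⟨⟨y, hyP⟩, rfl⟩ := QuotientGroup.mk'_surjective N q
    induction hyP using Subgroup.closure_induction with
    | mem g hg =>
      rcases hg with ⟨A, rfl⟩ | rfl
      · exact Subgroup.subset_closure (Or.inl ⟨A, rfl⟩)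
      · exact Subgroup.subset_closure (Or.inr rfl)
    | one => exact one_mem _
    | mul u v hu hv iu iv =>
      show mk (⟨u, hu⟩ * ⟨v, hv⟩) ∈ _
      rw [map_mul]
      exact mul_mem iu iv
    | inv u hu iu =>
      show mk (⟨u, hu⟩⁻¹) ∈ _
      rw [map_inv]
      exact inv_mem iu
  have hinj := R.injective π hπφ hπd hP
  have : mk ⟨x, hx⟩ = 1 := hinj (by
    rw [map_one]
    show (ξ x).1 = 1
    rw [h1]; rfl)
  obtain ⟨k, hk'⟩ := Subgroup.mem_zpowers_iff.1 ((QuotientGroup.eq_one_iff _).1 this)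
  exact ⟨k, congrArg Subtype.val hk'⟩

omit hk hs in
/-- The lifts cover the commutator subgroup. -/
theorem Lifts.map_gen : (gen φ D).map ξ = ⊤ := by
  let P : Subgroup (Om n F) := Subgroup.closure (((levC (F := F) hn).range : Set (Om n F)) ∪ {dC hn})
  have hP : P = ⊤ := by
    let φP : SpecialLinearGroup (Fin n) F →* P :=
      (levC hn).codRestrict P fun A => Subgroup.subset_closure (Or.inl ⟨A, rfl⟩)
    let dP : P := ⟨dC hn, Subgroup.subset_closure (Or.inr rfl)⟩
    have hgen : Subgroup.closure ((φP.range : Set P) ∪ {dP}) = ⊤ := by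
      rw [eq_top_iff]
      rintro ⟨y, hy⟩ -
      induction hy using Subgroup.closure_induction with
      | mem g hg =>
        rcases hg with ⟨A, rfl⟩ | rfl
        · exact Subgroup.subset_closure (Or.inl ⟨A, rfl⟩)
        · exact Subgroup.subset_closure (Or.inr rfl)
      | one => exact one_mem _
      | mul u v hu hv iu iv => exact mul_mem iu iv
      | inv u hu iu => exact inv_mem iu
    have e := range_eq_commutator (φ := φP) (d := dP) (hn := hn)
      ((commutator ↥(Plus.O n F)).subtype.comp P.subtype) (fun A => rfl) rfl hgen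
    rw [eq_top_iff]
    intro g _
    obtain ⟨y, hy⟩ := e.ge g.2
    rw [show g = y.1 from Subtype.ext hy.symm]
    exact y.2
  rw [gen, MonoidHom.map_closure, eq_top_iff, ← hP]
  refine (Subgroup.closure_le _).2 ?_
  rintro g (⟨A, rfl⟩ | rfl)
  · exact Subgroup.subset_closure ⟨φ A, Or.inl ⟨A, rfl⟩, L.lev A⟩
  · exact Subgroup.subset_closure ⟨D, Or.inr rfl, L.exch⟩

omit hk hs L in
/-- A generated extension with a non-trivial square maps to every central extension. -/
theorem exists_hom {Γ : Type uΓ} [Group Γ] {ζ : Γ →* Om n F} (hζ : Function.Surjective ζ)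
    (hζk : ζ.ker ≤ Subgroup.center Γ) {ψ : SpecialLinearGroup (Fin n) F →* Γ} {D' : Γ}
    (L' : Lifts hn ζ ψ D') (htop : gen ψ D' = ⊤) (hc : D' * D' = 1 → (2 : F) = 0)
    (hq : n = 4 → Fintype.card F ≠ 2) {X : Type uE} [Group X] (η : X →* Om n F) (hη : Function.Surjective η)
    (hηk : η.ker ≤ Subgroup.center X) : ∃ s : Γ →* X, ∀ g, η (s g) = ζ g := by
  obtain ⟨φ, D, L⟩ := exists_lifts hη hηk hq
  let Z : Subgroup (Γ × X) := MonoidHom.eqLocus (ζ.comp (MonoidHom.fst Γ X)) (η.comp (MonoidHom.snd Γ X))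
  have hψZ : ∀ A, (ψ A, φ A) ∈ Z := fun A => by
    show ζ (ψ A) = η (φ A)
    rw [L'.lev, L.lev]
  let φZ : SpecialLinearGroup (Fin n) F →* Z := (ψ.prod φ).codRestrict Z hψZ
  let DZ : Z := ⟨(D', D), by show ζ D' = η D; rw [L'.exch, L.exch]⟩
  let ξZ : Z →* Om n F := (ζ.comp (MonoidHom.fst Γ X)).comp Z.subtype
  have hξZ : Function.Surjective ξZ := fun g => by
    obtain ⟨u, hu⟩ := hζ g
    obtain ⟨v, hv⟩ := hη g
    exact ⟨⟨(u, v), hu.trans hv.symm⟩, hu⟩
  have hξZk : ξZ.ker ≤ Subgroup.center Z := by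
    rintro ⟨⟨u, v⟩, huv⟩ hu
    have hu1 : ζ u = 1 := hu
    have hv1 : η v = 1 := (show ζ u = η v from huv).symm.trans hu1
    rw [Subgroup.mem_center_iff]
    rintro ⟨⟨u', v'⟩, -⟩
    exact Subtype.ext (Prod.ext (Subgroup.mem_center_iff.1 (hζk hu1) u') (Subgroup.mem_center_iff.1 (hηk hv1) v'))
  have LZ : Lifts hn ξZ φZ DZ := ⟨fun A => L'.lev A, L'.exch, Subtype.ext (Prod.ext L'.par L.par)⟩
  let pr : gen φZ DZ →* Γ := ((MonoidHom.fst Γ X).comp Z.subtype).comp (gen φZ DZ).subtype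
  have hsurj : Function.Surjective pr := by
    rw [← MonoidHom.range_eq_top, eq_top_iff, ← htop, gen, Subgroup.closure_le]
    rintro g (⟨A, rfl⟩ | rfl)
    · exact ⟨⟨φZ A, phi_mem_gen _ _ A⟩, rfl⟩
    · exact ⟨⟨DZ, exch_mem_gen _ _⟩, rfl⟩
  have hinj : Function.Injective pr := by
    rw [injective_iff_map_eq_one]
    rintro ⟨⟨⟨u, v⟩, huv⟩, hmem⟩ hu
    obtain rfl : u = 1 := hu
    obtain ⟨k, hk⟩ := Subgroup.mem_zpowers_iff.1 (LZ.ker_le hξZ hξZk hq hmem (map_one ζ))
    have e1 : (D' * D') ^ k = 1 := congrArg (fun y : Z => y.1.1) hk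
    have e2 : (D * D) ^ k = v := congrArg (fun y : Z => y.1.2) hk
    have f1 := L'.sq_facts hζ hζk hq
    have f2 := L.sq_facts hη hηk hq
    have hv : v = 1 := by
      rw [← e2]
      rcases Int.even_or_odd k with ⟨j, rfl⟩ | ⟨j, rfl⟩
      · rw [← two_mul, _root_.zpow_mul, _root_.zpow_two, f2.1, _root_.one_zpow]
      · have : D' * D' = 1 := by
          rwa [_root_.zpow_add, zpow_one, _root_.zpow_mul, _root_.zpow_two, f1.1, _root_.one_zpow, one_mul] at e1
        rw [f2.2 (hc this), _root_.one_zpow]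
    subst hv
    rfl
  let e := MulEquiv.ofBijective pr ⟨hinj, hsurj⟩
  refine ⟨(((MonoidHom.snd Γ X).comp Z.subtype).comp (gen φZ DZ).subtype).comp e.symm.toMonoidHom, fun g => ?_⟩
  obtain ⟨y, rfl⟩ := e.surjective g
  show η ((e.symm (e y)).1.1.2) = ζ y.1.1.1
  rw [e.symm_apply_apply]
  exact y.1.2.symm

end CfsgLib.KnownA.PlusMultiplier
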