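import Cfsg.Agent.Lib.KnownA.PlusMultiplier.Clifford
import Cfsg.Agent.Lib.Classical.OrthPOmega
import Cfsg.Agent.Lib.KnownA.PSLMultiplier

/-!
# The multiplier of the projective commutator subgroup of plus type
-/

set_option autoImplicit false
set_option linter.unusedSectionVars false

open Matrix CfsgLib.Perm.Quad.SL2 CfsgLib.SL2Pres CfsgLib.SLPres CfsgLib.Classical CfsgLib.SpPres
open CfsgLib.KnownA.StSL CfsgLib.Chevalley.SingleBond CfsgLib.OPlusPres CfsgLib.KnownA.SpMultiplier.Pairing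
open scoped commutatorElement

namespace CfsgLib.KnownA.PlusMultiplier

universe u v

theorem stem_congr {Q Q' : Type u} [Group Q] [Group Q'] (e : Q ≃* Q') {A : Type v} [CommGroup A]
    (h : Cfsg.HasSchurMultiplier Q A) : Cfsg.HasSchurMultiplier Q' A := by
  have tr : ∀ {P P' : Type u} [Group P] [Group P'] (f : P ≃* P') {Γ : Type u} [Group Γ] (σ : Γ →* P),
      (f.toMonoidHom.comp σ).ker = σ.ker := fun f _ _ σ => by
    ext x; simp [MonoidHom.mem_ker]
  have st : ∀ {P P' : Type u} [Group P] [Group P'] (f : P ≃* P') {Γ : Type u} [Group Γ] (σ : Γ →* P),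
      Cfsg.IsStemExtension σ → Cfsg.IsStemExtension (f.toMonoidHom.comp σ) := fun f _ _ σ hσ =>
    ⟨f.surjective.comp hσ.1, (tr f σ).le.trans hσ.2.1, (tr f σ).le.trans hσ.2.2⟩
  obtain ⟨⟨Γ, _, _, σ, hσ, ⟨i⟩⟩, hb⟩ := h
  refine ⟨⟨Γ, inferInstance, inferInstance, e.toMonoidHom.comp σ, st e σ hσ,
    ⟨(MulEquiv.subgroupCongr (tr e σ)).trans i⟩⟩, fun Δ _ _ τ hτ => ?_⟩
  obtain ⟨p, hp⟩ := hb Δ (e.symm.toMonoidHom.comp τ) (st e.symm τ hτ)
  exact ⟨(MulEquiv.subgroupCongr (tr e.symm τ)).toMonoidHom.comp p,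
    (MulEquiv.subgroupCongr (tr e.symm τ)).surjective.comp hp⟩

variable {F : Type u} [Field F] [Fintype F] {n : ℕ} {hn : 4 ≤ n} {Γ : Type u} [Group Γ]
  {ζ : Γ →* Om n F} (hζ : Function.Surjective ζ) (hζk : ζ.ker ≤ Subgroup.center Γ)
  {φ : SpecialLinearGroup (Fin n) F →* Γ} {D : Γ} (L : Lifts hn ζ φ D)

include hζ hζk L

theorem perfect_of_gen (htop : gen φ D = ⊤) : commutator Γ = ⊤ := by
  have hφ : ∀ A, φ A ∈ commutator Γ := fun A => by
    have hp := CfsgLib.Classical.sl_perfect (F := F) (n := Fin n) (by rw [Fintype.card_fin]; omega)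
    have h := Subgroup.mem_map_of_mem φ (show A ∈ commutator (SpecialLinearGroup (Fin n) F) by
      rw [hp]; exact Subgroup.mem_top A)
    rw [commutator_def, Subgroup.map_commutator] at h
    exact Subgroup.commutator_mono le_top le_top h
  have hnorm : (commutator Γ).Normal := inferInstance
  rw [eq_top_iff, ← htop, gen, Subgroup.closure_le]
  rintro g (⟨A, rfl⟩ | rfl)
  · exact hφ A
  · show _ ∈ commutator Γ
    rw [eq_inv_mul_of_mul_eq L.par]
    exact mul_mem (inv_mem (hφ _)) (mul_mem (mul_mem (hφ _) (hnorm.conj_mem _ (hφ _) _)) (inv_mem (hφ _)))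

theorem finite_of_gen (htop : gen φ D = ⊤) (hq : n = 4 → Fintype.card F ≠ 2) : Finite Γ := by
  have hle : ∀ x : Γ, ζ x = 1 → x ∈ Subgroup.zpowers (D * D) := fun x hx =>
    L.ker_le hζ hζk hq (htop ▸ Subgroup.mem_top x) hx
  have : Finite (Subgroup.zpowers (D * D)) :=
    (isOfFinOrder_iff_pow_eq_one.2 ⟨2, by omega, by rw [pow_two]; exact (L.sq_facts hζ hζk hq).1⟩).finite_zpowers
  have : Finite ζ.ker := Finite.of_injective (fun x => (⟨x.1, hle _ x.2⟩ : Subgroup.zpowers (D * D)))
    fun x y h => Subtype.ext (congrArg Subtype.val h :)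
  have : Finite (Γ ⧸ ζ.ker) := Finite.of_equiv _ (QuotientGroup.quotientKerEquivOfSurjective ζ hζ).symm.toEquiv
  exact Finite.of_subgroup_quotient ζ.ker

theorem center_eq_comap (htop : gen φ D = ⊤) : Subgroup.center Γ = (Subgroup.center (Om n F)).comap ζ := by
  ext x
  constructor
  · intro hx
    rw [Subgroup.mem_comap, Subgroup.mem_center_iff]
    intro g
    obtain ⟨y, rfl⟩ := hζ g
    rw [← map_mul, ← map_mul, Subgroup.mem_center_iff.1 hx y]
  · intro hx
    rw [Subgroup.mem_center_iff]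
    intro y
    have hc : Commute (ζ x) (ζ y) := (Subgroup.mem_center_iff.1 hx (ζ y)).symm
    refine (commute_of_br hζ hζk ?_ rfl rfl).eq.symm
    exact br_one_of_perfect hζ hζk (perfect_of_gen hζ hζk L htop) ζ
      (fun k => (Subgroup.mem_center_iff.1 hx (ζ k)).symm) y

/-- The multiplier is the centre of the cover. -/
theorem hasSchurMultiplier_of_cover (htop : gen φ D = ⊤) (hc : D * D = 1 → (2 : F) = 0)
    (hq : n = 4 → Fintype.card F ≠ 2) {A : Type} [CommGroup A] (e : Subgroup.center Γ ≃* A) :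
    Cfsg.HasSchurMultiplier (Cfsg.POmega F (Cfsg.quadFormPlus n F)) A := by
  have := finite_of_gen hζ hζk L htop hq
  have hp := perfect_of_gen hζ hζk L htop
  have hsec : ∀ (E : Type u) [Group E] (ξ : E →* Γ), Function.Surjective ξ → ξ.ker ≤ Subgroup.center E →
      ∃ s : Γ →* E, ∀ g, ξ (s g) = g := by
    intro E _ ξ hs hk
    have hcomp : (ζ.comp ξ).ker ≤ Subgroup.center E := by
      intro x hx
      have hx' : ζ (ξ x) = 1 := hx
      have hcen := Subgroup.mem_center_iff.1 (hζk hx')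
      rw [Subgroup.mem_center_iff]
      intro y
      refine (commute_of_br hs hk ?_ rfl rfl).eq.symm
      exact br_one_of_perfect hs hk hp (MonoidHom.id Γ) (fun k => (hcen k).symm) (ξ y)
    obtain ⟨s, hs'⟩ := exists_hom hζ hζk L htop hc hq (ζ.comp ξ) (hζ.comp hs) hcomp
    refine ⟨s, fun g => ?_⟩
    exact DFunLike.congr_fun (hom_ext_of_perfect hζk hp (f := ξ.comp s) (f' := MonoidHom.id Γ) hs') g
  refine stem_congr ?_ (PSLMultiplier.hasSchurMultiplier_quotient_center hp hsec e)
  let g : Γ →* Cfsg.POmega F (Cfsg.quadFormPlus n F) := (QuotientGroup.mk' _).comp ζ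
  have hg : Function.Surjective g := (QuotientGroup.mk'_surjective _).comp hζ
  have hk : g.ker = Subgroup.center Γ := by
    rw [center_eq_comap hζ hζk L htop, ← MonoidHom.comap_ker, QuotientGroup.ker_mk']
  exact (QuotientGroup.quotientMulEquivOfEq hk.symm).trans (QuotientGroup.quotientKerEquivOfSurjective g hg)

theorem card_center_mul (htop : gen φ D = ⊤) :
    Nat.card (Subgroup.center Γ) = Nat.card (Subgroup.center (Om n F)) * Nat.card ζ.ker := by
  let r : Subgroup.center Γ →* Subgroup.center (Om n F) :=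
    (ζ.comp (Subgroup.center Γ).subtype).codRestrict _ fun x => by
      have := (center_eq_comap hζ hζk L htop).le x.2
      exact this
  have hr : Function.Surjective r := fun g => by
    obtain ⟨x, hx⟩ := hζ g.1
    exact ⟨⟨x, (center_eq_comap hζ hζk L htop).ge (show ζ x ∈ _ by rw [hx]; exact g.2)⟩, Subtype.ext hx⟩
  let k : r.ker ≃ ζ.ker :=
    { toFun := fun x => ⟨x.1.1, show ζ x.1.1 = 1 from congrArg Subtype.val x.2⟩
      invFun := fun x => ⟨⟨x.1, hζk x.2⟩, Subtype.ext x.2⟩
      left_inv := fun x => rfl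
      right_inv := fun x => rfl }
  rw [Subgroup.card_eq_card_quotient_mul_card_subgroup r.ker,
    Nat.card_congr (QuotientGroup.quotientKerEquivOfSurjective r hr).toEquiv, Nat.card_congr k]

end CfsgLib.KnownA.PlusMultiplier
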