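import Cfsg.Agent.Lib.KnownA.SpMultiplier.Pairing
import Cfsg.Agent.Lib.KnownA.PSLMultiplier
import Cfsg.Agent.Lib.KnownB.SpPres.Simple

/-!
# Pairs of commuting rank one subgroups under a central extension
-/

set_option autoImplicit false
set_option linter.unusedSectionVars false

open Matrix CfsgLib.Perm.Quad.SL2 CfsgLib.SL2Pres CfsgLib.SLPres CfsgLib.Classical CfsgLib.SpPres
open CfsgLib.KnownA.SpMultiplier.Pairing
open scoped commutatorElement

namespace CfsgLib.KnownA.PlusMultiplier

variable {E : Type*} [Group E] {G : Type*} [Group G] {ξ : E →* G}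
  (hs : Function.Surjective ξ) (hk : ξ.ker ≤ Subgroup.center E)

include hk

/-- An element centralising the image of a perfect group pairs trivially with it. -/
theorem br_one_of_perfect {K : Type*} [Group K] (hK : commutator K = ⊤) (f : K →* G) {g : G}
    (hc : ∀ k, Commute g (f k)) (k : K) : br hs g (f k) = 1 := by
  let H : Subgroup K :=
    { carrier := {k | br hs g (f k) = 1}
      one_mem' := by
        show br hs g (f 1) = 1
        rw [map_one]; exact br_one_right hs hk g
      mul_mem' := fun {a b} (ha : br hs g (f a) = 1) (hb : br hs g (f b) = 1) => by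
        show br hs g (f (a * b)) = 1
        rw [map_mul, br_mul_right_of_commute hs hk (hc b), ha, hb, one_mul]
      inv_mem' := fun {a} (ha : br hs g (f a) = 1) => by
        show br hs g (f a⁻¹) = 1
        rw [map_inv, br_inv_right hs hk (hc a), ha, inv_one] }
  have hle : commutator K ≤ H := by
    rw [commutator_def, Subgroup.commutator_le]
    intro p _ r _
    show br hs g (f ⁅p, r⁆) = 1
    rw [map_commutatorElement]
    exact br_one_of_factor hs hk (hc p) (hc r)
  rw [hK] at hle
  exact hle (Subgroup.mem_top k)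

/-- Two lifts of one homomorphism of a perfect group agree. -/
theorem hom_ext_of_perfect {K : Type*} [Group K] (hK : commutator K = ⊤) {f f' : K →* E}
    (h : ∀ k, ξ (f k) = ξ (f' k)) : f = f' := by
  have hle : commutator K ≤ f.eqLocus f' := by
    rw [commutator_def, Subgroup.commutator_le]
    intro p _ r _
    show f ⁅p, r⁆ = f' ⁅p, r⁆
    rw [map_commutatorElement, map_commutatorElement]
    exact comm_congr hk (h p) (h r)
  rw [hK] at hle
  exact MonoidHom.ext fun k => hle (Subgroup.mem_top k)

/-- An exchanged pair with equal third powers one pairs trivially. -/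
theorem br_one_of_swap {g h : G} (hgh : Commute g h) (Z : G) (h1 : Z * g * Z⁻¹ = h) (h2 : Z * h * Z⁻¹ = g)
    (h3 : h ^ 3 = 1) : br hs g h = 1 := by
  have e := br_conj_of_commute hs hk hgh Z
  rw [h1, h2] at e
  have hinv : br hs h g = (br hs g h)⁻¹ := by rw [br, br, commutatorElement_inv]
  rw [hinv] at e
  have e3 : br hs g h ^ 3 = 1 := by rw [← br_pow_right hs hk hgh, h3, br_one_right hs hk]
  have e2 : br hs g h ^ 2 = 1 := by
    rw [pow_two]
    nth_rewrite 1 [← e]
    exact inv_mul_cancel _
  have : br hs g h ^ 3 = br hs g h ^ 2 * br hs g h := pow_succ _ 2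
  rw [e3, e2, one_mul] at this
  exact this.symm

/-- A pair exchanged at a middle element. -/
theorem br_shift {A B C D : G} (hAB : A * B * A⁻¹ = D * B) (hAC : Commute A C)
    (h : br hs ⁅B, C⁆ ⁅D, C⁆ = 1) : br hs A ⁅B, C⁆ = br hs D ⁅B, C⁆ * br hs D C := by
  set a := lift hs A
  set b := lift hs B
  set c := lift hs C
  set d := lift hs D
  have hbc : ξ ⁅b, c⁆ = ⁅B, C⁆ := by simp only [map_commutatorElement, b, c, lift_spec]
  have e1 : a * ⁅b, c⁆ * a⁻¹ = d * ⁅b, c⁆ * d⁻¹ * ⁅d, c⁆ := by
    rw [conjugate_commutatorElement]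
    rw [comm_congr hk (show ξ (a * b * a⁻¹) = ξ (d * b) by
      simp only [map_mul, map_inv, a, b, d, lift_spec]; exact hAB) (show ξ (a * c * a⁻¹) = ξ c by
      simp only [map_mul, map_inv, a, c, lift_spec]; rw [hAC.eq, mul_inv_cancel_right])]
    simp only [commutatorElement_def]
    group
  have hdc : Commute ⁅b, c⁆ ⁅d, c⁆ := commute_of_br hs hk h hbc
    (by simp only [map_commutatorElement, c, d, lift_spec])
  have l1 : br hs A ⁅B, C⁆ = ⁅a, ⁅b, c⁆⁆ := by rw [br_eq hs hk, lift_spec, hbc]
  have l2 : br hs D ⁅B, C⁆ = ⁅d, ⁅b, c⁆⁆ := by rw [br_eq hs hk, lift_spec, hbc]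
  have l3 : br hs D C = ⁅d, c⁆ := rfl
  rw [l1, l2, l3, commutatorElement_def a, e1, commutatorElement_def d ⁅b, c⁆, mul_assoc _ ⁅b, c⁆⁻¹,
    mul_assoc _ ⁅d, c⁆, ← hdc.inv_left.eq]

section SL2

variable {F : Type*} [Field F] (f g : SL F →* G)

theorem br_homs_left (hc : ∀ x y, Commute (f x) (g y)) {y : SL F}
    (hu : ∀ t, br hs (f (up t)) (g y) = 1) (x : SL F) : br hs (f x) (g y) = 1 := by
  let H : Subgroup (SL F) :=
    { carrier := {x | br hs (f x) (g y) = 1}
      one_mem' := by
        show br hs (f 1) (g y) = 1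
        rw [map_one]; exact br_symm hs hk (br_one_right hs hk _)
      mul_mem' := fun {a b} (ha : br hs (f a) (g y) = 1) (hb : br hs (f b) (g y) = 1) => by
        show br hs (f (a * b)) (g y) = 1
        rw [map_mul, br_mul_left_of_commute hs hk (hc b y), ha, hb, one_mul]
      inv_mem' := fun {a} (ha : br hs (f a) (g y) = 1) => by
        show br hs (f a⁻¹) (g y) = 1
        rw [map_inv]
        apply br_symm hs hk
        rw [br_inv_right hs hk (hc a y).symm, br_symm hs hk ha, inv_one] }
  have : H = ⊤ := eq_top_of_up_low hu fun t => by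
    show br hs (f (low t)) (g y) = 1
    have e := br_one_of_conj hs hk (hc (up (-t)) y) (f jSL) (hu (-t))
    rwa [← map_inv, ← map_mul, ← map_mul, jSL_up, neg_neg, map_inv, (hc jSL y).eq, mul_inv_cancel_right] at e
  exact this.ge (Subgroup.mem_top x)

theorem br_homs_of_up (hc : ∀ x y, Commute (f x) (g y))
    (hu : ∀ t s, br hs (f (up t)) (g (up s)) = 1) (x y : SL F) : br hs (f x) (g y) = 1 :=
  br_symm hs hk (br_homs_left hs hk g f (fun a b => (hc b a).symm)
    (fun s => br_symm hs hk (br_homs_left hs hk f g hc (fun t => hu t s) x)) y)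

theorem br_ups_of_one [Fintype F] (hq : Fintype.card F ≤ 3) (hc : ∀ x y, Commute (f x) (g y))
    (h1 : br hs (f (up 1)) (g (up 1)) = 1) (t s : F) : br hs (f (up t)) (g (up s)) = 1 := by
  classical
  have hcase : ∀ x : F, x = 0 ∨ x = 1 ∨ x = -1 := by
    intro x
    by_cases hn1 : (-1 : F) = 1
    · by_cases h : Fintype.card F ≤ 2
      · have : ({0, 1} : Finset F) = Finset.univ := Finset.eq_univ_of_card _ (by
          rw [Finset.card_pair (zero_ne_one' F)]
          have := Fintype.one_lt_card (α := F)
          omega)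
        have := this.ge (Finset.mem_univ x)
        simp only [Finset.mem_insert, Finset.mem_singleton] at this
        tauto
      · exfalso
        have h2 : ringChar F = 2 := by
          by_contra hne
          exact Ring.two_ne_zero hne (by linear_combination -hn1)
        have := FiniteField.even_card_of_char_two h2
        omega
    · have : ({0, 1, -1} : Finset F) = Finset.univ := Finset.eq_univ_of_card _ (by
        have h3 : ({0, 1, -1} : Finset F).card = 3 :=
          Finset.card_eq_three.2 ⟨0, 1, -1, zero_ne_one' F, (neg_ne_zero.2 (one_ne_zero' F)).symm, Ne.symm hn1, rfl⟩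
        have := Finset.card_le_univ ({0, 1, -1} : Finset F)
        omega)
      have := this.ge (Finset.mem_univ x)
      simpa only [Finset.mem_insert, Finset.mem_singleton] using this
  have hr : ∀ s : F, br hs (f (up 1)) (g (up s)) = 1 := fun s => by
    rcases hcase s with rfl | rfl | rfl
    · rw [up_zero, map_one, br_one_right hs hk]
    · exact h1
    · rw [← up_inv, map_inv, br_inv_right hs hk (hc _ _), h1, inv_one]
  rcases hcase t with rfl | rfl | rfl
  · rw [up_zero, map_one]; exact br_symm hs hk (br_one_right hs hk _)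
  · exact hr s
  · rw [← up_inv, map_inv]
    apply br_symm hs hk
    rw [br_inv_right hs hk (hc _ _).symm, br_symm hs hk (hr s), inv_one]

end SL2

end CfsgLib.KnownA.PlusMultiplier
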