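import Cfsg.Agent.Lib.KnownA.PlusMultiplier.Base
import Cfsg.Agent.Lib.KnownA.PlusMultiplier.Pairs

/-!
# The relations of the double exchange lift to every central extension
-/

set_option autoImplicit false
set_option linter.unusedSectionVars false
set_option linter.unusedSimpArgs false

open Matrix CfsgLib.Perm.Quad.SL2 CfsgLib.SL2Pres CfsgLib.SLPres CfsgLib.Classical CfsgLib.SpPres
open CfsgLib.KnownA.StSL CfsgLib.Chevalley.SingleBond CfsgLib.OPlusPres CfsgLib.KnownA.SpMultiplier.Pairing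
open scoped commutatorElement

namespace CfsgLib.KnownA.PlusMultiplier

universe uE

variable {F : Type*} [Field F] [Fintype F] {n : ℕ} {E : Type uE} [Group E]

/-- A lift of the Levi factor and of the exchange. -/
structure Lifts (hn : 4 ≤ n) (ξ : E →* Om n F) (φ : SpecialLinearGroup (Fin n) F →* E) (D : E) : Prop where
  lev : ∀ A, ξ (φ A) = levC hn A
  exch : ξ D = dC hn
  par : φ (emb2 (ix hn 1) (ix hn 2) jSL) * D =
    φ (shiftW hn) * (D * φ (emb2 (ix hn 0) (ix hn 1) jSL) * D⁻¹) * (φ (shiftW hn))⁻¹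

variable {hn : 4 ≤ n} {ξ : E →* Om n F} (hs : Function.Surjective ξ) (hk : ξ.ker ≤ Subgroup.center E)

include hk hs in
theorem exists_lifts (hq : n = 4 → Fintype.card F ≠ 2) :
    ∃ φ : SpecialLinearGroup (Fin n) F →* E, ∃ D, Lifts hn ξ φ D := by
  classical
  let X : Subgroup (SpecialLinearGroup (Fin n) F × E) :=
    MonoidHom.eqLocus ((levC hn).comp (MonoidHom.fst _ E)) (ξ.comp (MonoidHom.snd _ E))
  let π : X →* SpecialLinearGroup (Fin n) F := (MonoidHom.fst _ E).comp X.subtype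
  have hπ : Function.Surjective π := fun A => ⟨⟨(A, lift hs (levC hn A)), (lift_spec hs _).symm⟩, rfl⟩
  have hπk : π.ker ≤ Subgroup.center X := by
    rintro ⟨⟨A, e⟩, he⟩ hA
    obtain rfl : A = 1 := hA
    have he' : ξ e = 1 := by
      have h1 : levC hn 1 = ξ e := he
      rw [map_one] at h1
      exact h1.symm
    rw [Subgroup.mem_center_iff]
    rintro ⟨⟨B, f⟩, -⟩
    exact Subtype.ext (Prod.ext (by simp) (Subgroup.mem_center_iff.1 (hk he') f))
  obtain ⟨s, hs'⟩ := SLMultiplier.exists_section hπ hπk (show SLMultiplier.Allowed F (Fintype.card (Fin n)) by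
    rw [Fintype.card_fin]; exact ⟨by omega, fun h => absurd h (by omega), hq⟩)
  let φ : SpecialLinearGroup (Fin n) F →* E := (MonoidHom.snd _ E).comp (X.subtype.comp s)
  have hφ : ∀ A, ξ (φ A) = levC hn A := fun A => by
    have e1 : (s A).1.1 = A := hs' A
    have e2 : levC hn (s A).1.1 = ξ (s A).1.2 := (s A).2
    rw [e1] at e2
    exact e2.symm
  let dt := lift hs (dC (F := F) hn)
  let D := (φ (emb2 (ix hn 1) (ix hn 2) jSL))⁻¹ *
    (φ (shiftW hn) * (dt * φ (emb2 (ix hn 0) (ix hn 1) jSL) * dt⁻¹) * (φ (shiftW hn))⁻¹)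
  have hD : ξ D = dC hn := by
    simp only [D, dt, map_mul, map_inv, hφ, lift_spec]
    rw [inv_mul_eq_iff_eq_mul, dC_inv]
    exact Subtype.ext (dEl_par (F := F) (hn := hn)).symm
  refine ⟨φ, D, hφ, hD, ?_⟩
  rw [conj_congr hk (show ξ D = ξ dt by rw [hD, lift_spec])]
  exact mul_inv_cancel_left _ _

/-- The exchanged first rank one subgroup. -/
def fA (hn : 4 ≤ n) : SL F →* Om n F :=
  (MulAut.conj (dC hn)).toMonoidHom.comp ((levC hn).comp (emb2 (ix hn 0) (ix hn 1)))

/-- A Levi rank one subgroup. -/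
def gA (hn : 4 ≤ n) (k l : Fin n) : SL F →* Om n F := (levC hn).comp (emb2 k l)

theorem fA_apply (z : SL F) :
    fA hn z = dC hn * levC hn (emb2 (ix hn 0) (ix hn 1) z) * (dC hn)⁻¹ := rfl

theorem gA_up {k l : Fin n} (h : k ≠ l) (t : F) : gA hn k l (up t) = rt hn (Sum.inl k) (Sum.inl l) t := by
  rw [gA, MonoidHom.comp_apply, emb2_up h, levC_tv]

theorem fA_up (t : F) : fA hn (up t) = rt hn (Sum.inl (ix hn 0)) (Sum.inr (ix hn 1)) t := by
  refine mC_inj ?_
  rw [mC_rt hn (show idx (Sum.inl (ix hn 0)) ≠ idx (Sum.inr (ix hn 1)) from ix_ne hn (by decide)),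
    fA_apply, dC_inv, el_up]
  exact mat_dEl_up t

theorem fA_commute_gA {k l : Fin n} (z z' : SL F)
    (h : Commute (dEl hn * Plus.lev n (emb2 (ix hn 0) (ix hn 1) z) * dEl hn) (Plus.lev n (emb2 k l z'))) :
    Commute (fA hn z) (gA hn k l z') := by
  rw [fA_apply, dC_inv]
  exact Subtype.ext h.eq

theorem fA_comm01 (z z' : SL F) : Commute (fA hn z) (gA hn (ix hn 0) (ix hn 1) z') :=
  fA_commute_gA z z' (dEl_good z z').1

theorem fA_comm23 (z z' : SL F) : Commute (fA hn z) (gA hn (ix hn 2) (ix hn 3) z') :=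
  fA_commute_gA z z' (dEl_good z z').2

theorem fA_comm_far (z : SL F) {a b : Fin n} (h : a ≠ b) (ha : 2 ≤ a.val) (hb : 2 ≤ b.val) (t : F) :
    Commute (fA hn z) (rt hn (Sum.inl a) (Sum.inl b) t) := by
  rw [← gA_up h]
  have h0 : ∀ c : Fin n, 2 ≤ c.val → ix hn 0 ≠ c ∧ ix hn 1 ≠ c := fun c hc => by
    refine ⟨fun e => ?_, fun e => ?_⟩ <;> subst e <;> simp [ix] at hc
  refine fA_commute_gA z _ (dEl_A_commute h (fun s t => ?_) (fun s t => ?_) z _)
  · have := congr'_altM (col_transvection (h0 b hb).1 h s) (col_transvection (h0 b hb).2 h s) t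
    rw [one_mul, one_mul] at this
    exact this
  · have := congr'_altM (col_transvection (h0 a ha).1 h.symm s) (col_transvection (h0 a ha).2 h.symm s) t
    rw [one_mul, one_mul] at this
    exact this

/-- A fresh coordinate. -/
theorem exists_fresh (h5 : 5 ≤ n) (a b c e : Fin n) : ∃ f, f ≠ a ∧ f ≠ b ∧ f ≠ c ∧ f ≠ e := by
  by_contra h
  push Not at h
  have := Finset.card_le_card (s := (Finset.univ : Finset (Fin n))) (t := {a, b, c, e}) fun x _ => by
    simp only [Finset.mem_insert, Finset.mem_singleton]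
    have := h x
    tauto
  have := Finset.card_le_four (a := a) (b := b) (c := c) (d := e)
  rw [Finset.card_univ, Fintype.card_fin] at *
  omega

include hs hk

theorem br_rt_fresh (h5 : 5 ≤ n) {a b c e : Fin n ⊕ Fin n} (h : idx a ≠ idx b) (h' : idx c ≠ idx e)
    (h1 : b ≠ c) (h2 : e ≠ a) (h3 : a.swap ≠ c) (h4 : b ≠ e.swap) (t u : F) :
    br hs (rt hn a b t) (rt hn c e u) = 1 := by
  obtain ⟨f, fa, fb, fc, fe⟩ := exists_fresh h5 (idx a) (idx b) (idx c) (idx e)
  have hfc : idx c ≠ idx (Sum.inl f) := fc.symm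
  have hfe : idx (Sum.inl f) ≠ idx e := fe
  rw [← mul_one u, ← rt_mix hn hfc hfe h' u 1]
  refine br_one_of_factor hs hk (rt_comm hn h hfc h1 ?_ h3 ?_ t u) (rt_comm hn h hfe ?_ h2 ?_ h4 t 1)
  · exact fun e => fa (congrArg idx e)
  · exact fun e => fb (by rw [e, idx_swap, idx_inl])
  · exact fun e => fb (congrArg idx e).symm
  · exact fun e => fa (by rw [← idx_swap a, e, idx_inl])

/-- The commutator does not depend on the middle coordinate. -/
theorem br_middle (h5 : 5 ≤ n) {a x y b : Fin n ⊕ Fin n} (hax : idx a ≠ idx x) (hay : idx a ≠ idx y)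
    (hab : idx a ≠ idx b) (hxy : idx x ≠ idx y) (hxb : idx x ≠ idx b) (hyb : idx y ≠ idx b) (t : F) :
    br hs (rt hn a x t) (rt hn x b 1) = br hs (rt hn a y t) (rt hn y b 1) := by
  obtain ⟨q1, q2, q3, q4⟩ := ne_of_idx hxy
  obtain ⟨r1, r2, r3, r4⟩ := ne_of_idx hab
  obtain ⟨u1, u2, u3, u4⟩ := ne_of_idx hxb
  obtain ⟨v1, v2, v3, v4⟩ := ne_of_idx hay
  obtain ⟨p1, p2, p3, p4⟩ := ne_of_idx hax
  obtain ⟨w1, w2, w3, w4⟩ := ne_of_idx hyb
  have hC : Commute (rt hn a x t) (rt hn y b 1) := rt_comm hn hax hyb q1 r1.symm v2 u3 t 1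
  have hBC : ⁅rt hn x y (1 : F), rt hn y b 1⁆ = rt hn x b (1 : F) := by
    rw [rt_mix hn hxy hyb hxb, mul_one]
  have hDC : ⁅rt hn a y t, rt hn y b 1⁆ = rt hn a b t := by rw [rt_mix hn hay hyb hab, mul_one]
  have h := br_shift hs hk (A := rt hn a x t) (B := rt hn x y 1) (C := rt hn y b 1) (D := rt hn a y t)
    (by
      have := rt_mix hn hax hxy hay t (1 : F)
      rw [mul_one, commutatorElement_def, mul_inv_eq_iff_eq_mul] at this
      exact this) hC
    (by
      rw [hBC, hDC]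
      exact br_rt_fresh hs hk h5 hxb hab r1.symm u1.symm
        (fun e => p2 (by rw [← e, Sum.swap_swap]) ) (fun e => absurd (congrArg Sum.swap e) (by
          cases b <;> simp)) 1 t)
  rw [hBC] at h
  rw [h, br_rt_fresh hs hk h5 hay hxb q1.symm r1.symm p2 w3 t 1, one_mul]

variable {φ : SpecialLinearGroup (Fin n) F →* E} {D : E} (L : Lifts hn ξ φ D)
include L

omit hk hs in
theorem Lifts.ξ_y {a b : Fin n} (h : a ≠ b) (t : F) :
    ξ (yTr φ a b t) = rt hn (Sum.inl a) (Sum.inl b) t := by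
  rw [yTr_eq φ h, L.lev, levC_tv]

omit hk hs in
theorem Lifts.ξ_A (z : SL F) : ξ (D * φ (emb2 (ix hn 0) (ix hn 1) z) * D⁻¹) = fA hn z := by
  simp only [map_mul, map_inv, L.exch, L.lev]
  rfl

theorem Lifts.comm_eq {p r : SpecialLinearGroup (Fin n) F} :
    br hs (levC hn p) (levC hn r) = φ ⁅p, r⁆ := by
  rw [← L.lev, ← L.lev, ← br_eq hs hk, map_commutatorElement]

theorem Lifts.cK (hq : n = 4 → Fintype.card F ≠ 2) {a b : Fin n} (h : a ≠ b) (ha : Out hn a) (hb : Out hn b)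
    (t : F) : Commute D (yTr φ a b t) := by
  refine commute_of_br hs hk ?_ L.exch (L.ξ_y h t)
  by_cases h5 : 5 ≤ n
  · obtain ⟨f, fa, fb, f1, f2⟩ := exists_fresh h5 a b (ix hn 1) (ix hn 2)
    have e := rt_mix hn (show idx (Sum.inl a) ≠ idx (Sum.inl f) from fa.symm)
      (show idx (Sum.inl f) ≠ idx (Sum.inl b) from fb) (show idx (Sum.inl a) ≠ idx (Sum.inl b) from h) t (1 : F)
    rw [mul_one] at e
    rw [← e]
    exact br_one_of_factor hs hk (dC_out hn (a := Sum.inl a) (b := Sum.inl f) fa.symm ha ⟨f1, f2⟩ t)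
      (dC_out hn (a := Sum.inl f) (b := Sum.inl b) fb ⟨f1, f2⟩ hb 1)
  have hn4 : n = 4 := by omega
  by_cases h4 : 4 ≤ Fintype.card F
  · rw [← gA_up h]
    refine br_one_of_perfect hs hk (PSLMultiplier.sl_two_perfect h4) (gA hn a b) (fun k => ?_) (up t)
    refine Subgroup.mem_centralizer_singleton_iff.1 (Subgroup.mem_comap.1 ((eq_top_of_up_low
      (H := (Subgroup.centralizer {dC hn}).comap (gA hn a b)) (fun s => ?_) fun s => ?_).ge
        (Subgroup.mem_top k))) |>.symm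
    · rw [Subgroup.mem_comap, Subgroup.mem_centralizer_singleton_iff, gA_up h]
      exact (dC_out hn (a := Sum.inl a) (b := Sum.inl b) h ha hb s).eq.symm
    · rw [Subgroup.mem_comap, Subgroup.mem_centralizer_singleton_iff, gA, MonoidHom.comp_apply,
        emb2_low h, levC_tv]
      exact (dC_out hn (a := Sum.inl b) (b := Sum.inl a) h.symm hb ha s).eq.symm
  have h3 : Fintype.card F = 3 := by
    have := Fintype.one_lt_card (α := F)
    have := hq hn4
    omega
  have hn1 : (-1 : F) ≠ 1 := fun e => by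
    have h2 : ringChar F = 2 := by
      by_contra hne
      exact Ring.two_ne_zero hne (by linear_combination -e)
    have := FiniteField.even_card_of_char_two h2
    omega
  refine br_one_of_scale hs hk (x := fun s => rt hn (Sum.inl a) (Sum.inl b) s) (fun s u => rt_add hn (a := Sum.inl a) (b := Sum.inl b) h s u)
    (fun s => dC_out hn (a := Sum.inl a) (b := Sum.inl b) h ha hb s) (d := levC hn (emb2 a (ix hn 1) (dSL (neg_ne_zero.2 (one_ne_zero' F)))))
    (dC_sign hn ha.1).symm hn1 (fun s => ?_) t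
  simp only [← levC_tv hn h]
  rw [← map_inv, ← map_mul, ← map_mul, emb2_dSL ha.1, diag2n_scale ha.1 _ h]
  congr 2
  simp [Ne.symm h, hb.1]

theorem Lifts.flip (hq : n = 4 → Fintype.card F ≠ 2) (z : SL F) :
    D * φ (emb2 (ix hn 1) (ix hn 2) z) * D⁻¹ = φ (emb2 (ix hn 1) (ix hn 2) (cj z)) := by
  have h12 := ix_ne hn (show (1 : Fin 4) ≠ 2 by decide)
  have h01 := ix_ne hn (show (0 : Fin 4) ≠ 1 by decide)
  have h02 := ix_ne hn (show (0 : Fin 4) ≠ 2 by decide)
  set f : SL F →* E := (MulAut.conj D).toMonoidHom.comp (φ.comp (emb2 (ix hn 1) (ix hn 2)))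
  set f' : SL F →* E := (φ.comp (emb2 (ix hn 1) (ix hn 2))).comp cj
  have hξ : ∀ w, ξ (f w) = ξ (f' w) := fun w => by
    show ξ (D * φ _ * D⁻¹) = ξ (φ (emb2 _ _ (cj w)))
    simp only [map_mul, map_inv, L.exch, L.lev]
    rw [dC_inv]
    exact Subtype.ext (dEl_flip w)
  suffices f = f' by exact DFunLike.congr_fun this z
  by_cases h4 : 4 ≤ Fintype.card F
  · exact hom_ext_of_perfect hk (PSLMultiplier.sl_two_perfect h4) hξ
  have hup : ∀ t, f (up t) = f' (up t) := by
    intro t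
    show D * φ (emb2 _ _ (up t)) * D⁻¹ = φ (emb2 _ _ (cj (up t)))
    rw [cj_up, emb2_up h12, emb2_low h12]
    by_cases h5 : 5 ≤ n
    · have h13 := ix_ne hn (show (1 : Fin 4) ≠ 3 by decide)
      have h23 := ix_ne hn (show (2 : Fin 4) ≠ 3 by decide)
      have h03 := ix_ne hn (show (0 : Fin 4) ≠ 3 by decide)
      have e1 : ⁅SpecialLinearGroup.transvection h01.symm t,
          SpecialLinearGroup.transvection h02 (1 : F)⁆ = SpecialLinearGroup.transvection h12 t := by
        rw [commutator_transvection h01.symm h02 h12, mul_one]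
      have hD1 : dC hn * rt hn (Sum.inl (ix hn 1)) (Sum.inl (ix hn 0)) t * (dC hn)⁻¹ =
          rt hn (Sum.inr (ix hn 1)) (Sum.inl (ix hn 0)) t := by
        rw [dC_rt hn (show idx (Sum.inl (ix hn 1)) ≠ idx (Sum.inl (ix hn 0)) from h01.symm),
          dX_in hn (Or.inl rfl), dX_out hn (show Out hn (idx (Sum.inl (ix hn 0))) from out_zero hn)]
        rfl
      have hD2 : dC hn * rt hn (Sum.inl (ix hn 0)) (Sum.inl (ix hn 2)) (1 : F) * (dC hn)⁻¹ =
          rt hn (Sum.inl (ix hn 0)) (Sum.inr (ix hn 2)) 1 := by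
        rw [dC_rt hn (show idx (Sum.inl (ix hn 0)) ≠ idx (Sum.inl (ix hn 2)) from h02),
          dX_out hn (show Out hn (idx (Sum.inl (ix hn 0))) from out_zero hn), dX_in hn (Or.inr rfl)]
        rfl
      rw [← e1, ← L.comm_eq hs hk, ← act_of hs hk L.exch, act_br hs hk, levC_tv, levC_tv, hD1, hD2,
        br_middle hs hk h5 (y := Sum.inr (ix hn 3))
          (show idx (Sum.inr (ix hn 1)) ≠ idx (Sum.inl (ix hn 0)) from h01.symm)
          (show idx (Sum.inr (ix hn 1)) ≠ idx (Sum.inr (ix hn 3)) from h13)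
          (show idx (Sum.inr (ix hn 1)) ≠ idx (Sum.inr (ix hn 2)) from h12)
          (show idx (Sum.inl (ix hn 0)) ≠ idx (Sum.inr (ix hn 3)) from h03)
          (show idx (Sum.inl (ix hn 0)) ≠ idx (Sum.inr (ix hn 2)) from h02)
          (show idx (Sum.inr (ix hn 3)) ≠ idx (Sum.inr (ix hn 2)) from h23.symm),
        rt_swap hn (show idx (Sum.inr (ix hn 1)) ≠ idx (Sum.inr (ix hn 3)) from h13),
        rt_swap hn (show idx (Sum.inr (ix hn 3)) ≠ idx (Sum.inr (ix hn 2)) from h23.symm)]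
      show br hs (rt hn (Sum.inl (ix hn 3)) (Sum.inl (ix hn 1)) (-t))
        (rt hn (Sum.inl (ix hn 2)) (Sum.inl (ix hn 3)) (-1)) = _
      rw [← levC_tv hn h13.symm, ← levC_tv hn h23, L.comm_eq hs hk, ← commutatorElement_inv,
        commutator_transvection h23 h13.symm h12.symm, SpecialLinearGroup.transvection_inv]
      congr 2
      ring
    have hn4 : n = 4 := by omega
    have h3 : Fintype.card F = 3 := by
      have := Fintype.one_lt_card (α := F)
      have := hq hn4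
      omega
    have hn1 : (-1 : F) ≠ 1 := fun e => by
      have h2 : ringChar F = 2 := by
        by_contra hne
        exact Ring.two_ne_zero hne (by linear_combination -e)
      have := FiniteField.even_card_of_char_two h2
      omega
    have sc : ∀ (i j : Fin n) (h : i ≠ j) (x : F),
        (i = ix hn 1 ∧ j = ix hn 2) ∨ (i = ix hn 2 ∧ j = ix hn 1) →
        emb2 (ix hn 0) (ix hn 1) (dSL (neg_ne_zero.2 (one_ne_zero' F))) * SpecialLinearGroup.transvection h x *
          (emb2 (ix hn 0) (ix hn 1) (dSL (neg_ne_zero.2 (one_ne_zero' F))))⁻¹ =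
            SpecialLinearGroup.transvection h (-1 * x) := by
      intro i j h x hij
      rw [emb2_dSL h01, diag2n_scale h01 _ h]
      congr 1
      rcases hij with ⟨rfl, rfl⟩ | ⟨rfl, rfl⟩ <;> simp [h01.symm, h02.symm, h12, h12.symm]
    have hT := L.lev (emb2 (ix hn 0) (ix hn 1) (dSL (neg_ne_zero.2 (one_ne_zero' F))))
    refine uniq hs hk (z := fun x => D * φ (SpecialLinearGroup.transvection h12 x) * D⁻¹)
      (z' := fun x => φ (SpecialLinearGroup.transvection h12.symm (-x)))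
      (fun x y => ?_) (fun x y => ?_) (fun x => ?_) hn1
      (d := levC hn (emb2 (ix hn 0) (ix hn 1) (dSL (neg_ne_zero.2 (one_ne_zero' F))))) (fun x => ?_)
      (fun x => ?_) t
    · rw [← emb2_up h12, ← emb2_up h12, ← emb2_up h12, ← up_add, map_mul, map_mul]
      group
    · rw [← emb2_low h12, ← emb2_low h12, ← emb2_low h12, ← map_mul, ← map_mul, low_add, neg_add]
    · have := hξ (up x)
      simp only [f, f', MonoidHom.comp_apply, MulEquiv.coe_toMonoidHom, MulAut.conj_apply, cj_up, emb2_up h12,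
        emb2_low h12] at this
      exact this
    · rw [map_mul, map_mul, map_inv, act_of hs hk hT, act_of hs hk hT,
        ← map_inv φ, ← map_mul, ← map_mul, sc _ _ h12 x (Or.inl ⟨rfl, rfl⟩)]
      have hD : φ (emb2 (ix hn 0) (ix hn 1) (dSL (neg_ne_zero.2 (one_ne_zero' F)))) * D *
          (φ (emb2 (ix hn 0) (ix hn 1) (dSL (neg_ne_zero.2 (one_ne_zero' F)))))⁻¹ =
            φ (emb2 (ix hn 0) (ix hn 1) (dSL (neg_ne_zero.2 (one_ne_zero' F)))) * D *
          (φ (emb2 (ix hn 0) (ix hn 1) (dSL (neg_ne_zero.2 (one_ne_zero' F)))))⁻¹ := rfl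
      exact conj_congr hk (by
        simp only [map_mul, map_inv, L.exch, L.lev]
        rw [← (dC_sign hn h01).eq, mul_inv_cancel_right]) _
    · rw [act_of hs hk hT, ← map_inv, ← map_mul, ← map_mul, sc _ _ h12.symm _ (Or.inr ⟨rfl, rfl⟩), mul_neg]
  refine sl2_hom_ext hup fun s => ?_
  have e := hup (-s)
  have hD2 : ξ (D * D) = ξ 1 := by rw [map_mul, map_one, L.exch, dC_sq]
  show D * φ (emb2 _ _ (low s)) * D⁻¹ = φ (emb2 _ _ (cj (low s)))
  replace e : D * φ (emb2 (ix hn 1) (ix hn 2) (up (-s))) * D⁻¹ =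
      φ (emb2 (ix hn 1) (ix hn 2) (cj (up (-s)))) := e
  rw [cj_up, neg_neg] at e
  rw [cj_low, ← e]
  calc D * (D * φ (emb2 (ix hn 1) (ix hn 2) (up (-s))) * D⁻¹) * D⁻¹
      = (D * D) * φ (emb2 (ix hn 1) (ix hn 2) (up (-s))) * (D * D)⁻¹ := by group
    _ = _ := by rw [conj_congr hk hD2, one_mul, inv_one, mul_one]

omit hk hs L in
/-- The coordinate exchange carrying the two commuting pairs into each other. -/
theorem exists_Z (hn : 4 ≤ n) : ∃ Z : Om n F, ∀ t,
    Z * rt hn (Sum.inl (ix hn 0)) (Sum.inr (ix hn 1)) t * Z⁻¹ =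
        rt hn (Sum.inl (ix hn 2)) (Sum.inl (ix hn 3)) t ∧
      Z * rt hn (Sum.inl (ix hn 2)) (Sum.inl (ix hn 3)) t * Z⁻¹ =
        rt hn (Sum.inl (ix hn 0)) (Sum.inr (ix hn 1)) t := by
  have h01 := ix_ne hn (show (0 : Fin 4) ≠ 1 by decide)
  have h02 := ix_ne hn (show (0 : Fin 4) ≠ 2 by decide)
  have h03 := ix_ne hn (show (0 : Fin 4) ≠ 3 by decide)
  have h12 := ix_ne hn (show (1 : Fin 4) ≠ 2 by decide)
  have h13 := ix_ne hn (show (1 : Fin 4) ≠ 3 by decide)
  have h23 := ix_ne hn (show (2 : Fin 4) ≠ 3 by decide)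
  let σ : Equiv.Perm (Fin n) := Equiv.swap (ix hn 0) (ix hn 2) * Equiv.swap (ix hn 1) (ix hn 3)
  have hm : ∀ a, (monSgn σ a : F) = 1 := fun a => by
    rw [monSgn]
    split_ifs
    · simp [σ, Equiv.Perm.sign_swap h02, Equiv.Perm.sign_swap h13]
    · rfl
  have s0 : σ (ix hn 0) = ix hn 2 := by simp [σ, Equiv.swap_apply_of_ne_of_ne h01 h03]
  have s1 : σ (ix hn 1) = ix hn 3 := by simp [σ, Equiv.swap_apply_of_ne_of_ne h03.symm h23.symm]
  have s2 : σ (ix hn 2) = ix hn 0 := by simp [σ, Equiv.swap_apply_of_ne_of_ne h12.symm h23]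
  have s3 : σ (ix hn 3) = ix hn 1 := by simp [σ, Equiv.swap_apply_of_ne_of_ne h01.symm h12]
  set M := levC (F := F) hn (monSL (show 3 ≤ n by omega) σ)
  set J := levC (F := F) hn (emb2 (ix hn 2) (ix hn 3) jSL)
  refine ⟨J * dC hn * M, fun t => ?_⟩
  have i01 : idx (Sum.inl (ix hn 0)) ≠ idx (Sum.inr (ix hn 1)) := h01
  have i23 : idx (Sum.inl (ix hn 2)) ≠ idx (Sum.inl (ix hn 3)) := h23
  have i23' : idx (Sum.inl (ix hn 2)) ≠ idx (Sum.inr (ix hn 3)) := h23
  have mA : M * rt hn (Sum.inl (ix hn 0)) (Sum.inr (ix hn 1)) t * M⁻¹ =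
      rt hn (Sum.inl (ix hn 2)) (Sum.inr (ix hn 3)) t := by
    refine mC_inj ?_
    rw [mC_rt hn i23', el_up]
    show Plus.mat (Plus.lev n _ * _ * (Plus.lev n _)⁻¹) = _
    rw [lev_conj_upBlk _ ((mC_rt hn i01 t).trans (el_up t)),
      congr'_altM (col_monSL hn σ _) (col_monSL hn σ _), hm, hm, s0, s1, one_mul, one_mul]
  have mB : M * rt hn (Sum.inl (ix hn 2)) (Sum.inl (ix hn 3)) t * M⁻¹ =
      rt hn (Sum.inl (ix hn 0)) (Sum.inl (ix hn 1)) t := by
    rw [← levC_tv hn h23, ← map_inv, ← map_mul, ← map_mul, monSL_conj_transvection, levC_tv, hm, hm, one_mul,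
      one_mul, s2, s3]
  have dA : dC hn * rt hn (Sum.inl (ix hn 2)) (Sum.inr (ix hn 3)) t * (dC hn)⁻¹ =
      levC hn (SpecialLinearGroup.transvection h23.symm (-t)) := by
    rw [dC_rt hn i23', dX_in hn (Or.inr rfl),
      dX_out hn (show Out hn (idx (Sum.inr (ix hn 3))) from out_three hn), levC_tv,
      rt_swap hn (show idx (Sum.swap (Sum.inl (ix hn 2))) ≠ idx (Sum.inr (ix hn 3)) from h23)]
    rfl
  have dB : dC hn * rt hn (Sum.inl (ix hn 0)) (Sum.inl (ix hn 1)) t * (dC hn)⁻¹ =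
      rt hn (Sum.inl (ix hn 0)) (Sum.inr (ix hn 1)) t := by
    rw [dC_rt hn (show idx (Sum.inl (ix hn 0)) ≠ idx (Sum.inl (ix hn 1)) from h01),
      dX_out hn (show Out hn (idx (Sum.inl (ix hn 0))) from out_zero hn), dX_in hn (Or.inl rfl)]
    rfl
  have jA : J * levC hn (SpecialLinearGroup.transvection h23.symm (-t)) * J⁻¹ =
      rt hn (Sum.inl (ix hn 2)) (Sum.inl (ix hn 3)) t := by
    rw [← emb2_low h23, ← map_inv, ← map_mul, ← map_mul, ← map_inv, ← map_mul, ← map_mul,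
      show jSL * low (-t) * (jSL)⁻¹ = cj (low (-t)) from rfl, cj_low, neg_neg, emb2_up h23, levC_tv]
  have jB : J * rt hn (Sum.inl (ix hn 0)) (Sum.inr (ix hn 1)) t * J⁻¹ =
      rt hn (Sum.inl (ix hn 0)) (Sum.inr (ix hn 1)) t := by
    rw [← fA_up]
    exact mul_inv_eq_iff_eq_mul.2 (fA_comm23 (hn := hn) (up t) jSL).eq.symm
  constructor
  · calc _ = J * (dC hn * (M * rt hn (Sum.inl (ix hn 0)) (Sum.inr (ix hn 1)) t * M⁻¹) * (dC hn)⁻¹) * J⁻¹ := by
          group
      _ = _ := by rw [mA, dA, jA]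
  · calc _ = J * (dC hn * (M * rt hn (Sum.inl (ix hn 2)) (Sum.inl (ix hn 3)) t * M⁻¹) * (dC hn)⁻¹) * J⁻¹ := by
          group
      _ = _ := by rw [mB, dB, jB]

theorem Lifts.aA (hq : n = 4 → Fintype.card F ≠ 2) (z z' : SL F) :
    Commute (D * φ (emb2 (ix hn 0) (ix hn 1) z) * D⁻¹) (φ (emb2 (ix hn 0) (ix hn 1) z')) := by
  refine commute_of_br hs hk ?_ (L.ξ_A z) (L.lev _)
  show br hs (fA hn z) (gA hn (ix hn 0) (ix hn 1) z') = 1
  have h01 := ix_ne hn (show (0 : Fin 4) ≠ 1 by decide)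
  by_cases h4 : 4 ≤ Fintype.card F
  · exact br_one_of_perfect hs hk (PSLMultiplier.sl_two_perfect h4) _ (fA_comm01 z) z'
  refine br_homs_of_up hs hk _ _ fA_comm01 (br_ups_of_one hs hk _ _ (by omega) fA_comm01 ?_) z z'
  by_cases h3 : Fintype.card F = 3
  · refine br_one_of_swap hs hk (fA_comm01 _ _) (dC hn) ?_ rfl ?_
    · show dC hn * (dC hn * gA hn (ix hn 0) (ix hn 1) (up (1 : F)) * (dC hn)⁻¹) * (dC hn)⁻¹ = _
      rw [dC_inv, ← mul_assoc, ← mul_assoc, dC_sq, one_mul, mul_assoc, dC_sq, mul_one]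
    · have h0 : (3 : F) = 0 := by
        have := FiniteField.cast_card_eq_zero F
        rw [h3] at this
        exact_mod_cast this
      rw [← map_pow, show up (1 : F) ^ 3 = 1 from by
        rw [pow_succ, pow_two, up_add, up_add, show (1 : F) + 1 + 1 = 0 by linear_combination h0, up_zero],
        map_one]
  have h2 : Fintype.card F = 2 := by
    have := Fintype.one_lt_card (α := F)
    omega
  have h5 : 5 ≤ n := by
    by_contra
    exact hq (by omega) h2
  have hneg : (-1 : F) = 1 := by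
    have := FiniteField.cast_card_eq_zero F
    rw [h2] at this
    have h0 : (2 : F) = 0 := by exact_mod_cast this
    linear_combination -h0
  have h02 := ix_ne hn (show (0 : Fin 4) ≠ 2 by decide)
  have h12 := ix_ne hn (show (1 : Fin 4) ≠ 2 by decide)
  have h03 := ix_ne hn (show (0 : Fin 4) ≠ 3 by decide)
  have h13 := ix_ne hn (show (1 : Fin 4) ≠ 3 by decide)
  have h32 := ix_ne hn (show (3 : Fin 4) ≠ 2 by decide)
  rw [fA_up, gA_up h01]
  set l0 : Fin n ⊕ Fin n := Sum.inl (ix hn 0)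
  set l1 : Fin n ⊕ Fin n := Sum.inl (ix hn 1)
  set l2 : Fin n ⊕ Fin n := Sum.inl (ix hn 2)
  set l3 : Fin n ⊕ Fin n := Sum.inl (ix hn 3)
  have sw : ∀ {a b : Fin n ⊕ Fin n}, idx a ≠ idx b → rt hn a b (1 : F) = rt hn b.swap a.swap 1 :=
    fun h => by rw [rt_swap hn h, hneg]
  have i01 : idx l0 ≠ idx l1 := h01
  have i12 : idx l1 ≠ idx l2 := h12
  have i02 : idx l0 ≠ idx l2 := h02
  have hAB : ⁅rt hn l1 l2 (1 : F), rt hn l0 (Sum.inr (ix hn 2)) (1 : F)⁆ = rt hn l0 (Sum.inr (ix hn 1)) 1 := by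
    rw [sw (a := l0) (b := Sum.inr (ix hn 2)) h02]
    show ⁅rt hn l1 l2 (1 : F), rt hn l2 (Sum.inr (ix hn 0)) (1 : F)⁆ = _
    rw [rt_mix hn i12 (show idx l2 ≠ idx (Sum.inr (ix hn 0)) from h02.symm)
      (show idx l1 ≠ idx (Sum.inr (ix hn 0)) from h01.symm), mul_one,
      sw (show idx l1 ≠ idx (Sum.inr (ix hn 0)) from h01.symm)]
    rfl
  have hBC : ⁅rt hn l0 (Sum.inr (ix hn 2)) (1 : F), rt hn (Sum.inr (ix hn 2)) l1 (1 : F)⁆ = rt hn l0 l1 1 := by
    rw [rt_mix hn (show idx l0 ≠ idx (Sum.inr (ix hn 2)) from h02)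
      (show idx (Sum.inr (ix hn 2)) ≠ idx l1 from h12.symm) i01, mul_one]
  have hC : rt hn (Sum.inr (ix hn 2)) l1 (1 : F) = rt hn (Sum.inr (ix hn 1)) l2 1 :=
    sw (show idx (Sum.inr (ix hn 2)) ≠ idx l1 from h12.symm)
  have hDC : ⁅rt hn l0 (Sum.inr (ix hn 1)) (1 : F), rt hn (Sum.inr (ix hn 2)) l1 (1 : F)⁆ = rt hn l0 l2 1 := by
    rw [hC, rt_mix hn (show idx l0 ≠ idx (Sum.inr (ix hn 1)) from h01)
      (show idx (Sum.inr (ix hn 1)) ≠ idx l2 from h12) i02, mul_one]
  have hAC : Commute (rt hn l1 l2 (1 : F)) (rt hn (Sum.inr (ix hn 2)) l1 1) := by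
    rw [sw i12]
    exact rt_comm_swap hn (show idx (Sum.inr (ix hn 2)) ≠ idx (Sum.inr (ix hn 1)) from h12.symm) 1 1
  have h := br_shift hs hk (A := rt hn l1 l2 (1 : F)) (B := rt hn l0 (Sum.inr (ix hn 2)) (1 : F))
    (C := rt hn (Sum.inr (ix hn 2)) l1 (1 : F)) (D := rt hn l0 (Sum.inr (ix hn 1)) (1 : F))
    (by rw [← mul_inv_eq_iff_eq_mul, ← commutatorElement_def, hAB]) hAC
    (by
      rw [hBC, hDC, ← levC_tv hn h01, ← levC_tv hn h02, L.comm_eq hs hk,
        commutatorElement_eq_one_iff_commute.2 (transvection_commute h01 h02 h02 h01.symm 1 1), map_one])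
  rw [hBC, hC, br_middle hs hk h5 (y := l3) (show idx l0 ≠ idx (Sum.inr (ix hn 1)) from h01)
    (show idx l0 ≠ idx l3 from h03) i02 (show idx (Sum.inr (ix hn 1)) ≠ idx l3 from h13)
    (show idx (Sum.inr (ix hn 1)) ≠ idx l2 from h12) (show idx l3 ≠ idx l2 from h32)] at h
  rw [← levC_tv hn h01, ← levC_tv hn h12, ← levC_tv hn h03, ← levC_tv hn h32, L.comm_eq hs hk,
    L.comm_eq hs hk, ← commutatorElement_inv, commutator_transvection h01 h12 h02,
    commutator_transvection h03 h32 h02, map_inv, ← map_inv, SpecialLinearGroup.transvection_inv, mul_one,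
    hneg] at h
  rw [← levC_tv hn h01]
  exact right_eq_mul.1 h

theorem Lifts.aL (hq : n = 4 → Fintype.card F ≠ 2) (z : SL F) {a b : Fin n} (h : a ≠ b) (ha : 2 ≤ a.val)
    (hb : 2 ≤ b.val) (t : F) :
    Commute (D * φ (emb2 (ix hn 0) (ix hn 1) z) * D⁻¹) (yTr φ a b t) := by
  refine commute_of_br hs hk ?_ (L.ξ_A z) (L.ξ_y h t)
  by_cases h5 : 5 ≤ n
  · obtain ⟨f, fa, fb, f0, f1⟩ := exists_fresh h5 a b (ix hn 0) (ix hn 1)
    have hf : 2 ≤ f.val := by
      simp only [ne_eq, Fin.ext_iff, ix, Fin.val_castLE] at f0 f1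
      simp at f0 f1
      omega
    have e := rt_mix hn (show idx (Sum.inl a) ≠ idx (Sum.inl f) from fa.symm)
      (show idx (Sum.inl f) ≠ idx (Sum.inl b) from fb) (show idx (Sum.inl a) ≠ idx (Sum.inl b) from h) t (1 : F)
    rw [mul_one] at e
    rw [← e]
    exact br_one_of_factor hs hk (fA_comm_far z fa.symm ha hf t) (fA_comm_far z fb hf hb 1)
  have h23 := ix_ne hn (show (2 : Fin 4) ≠ 3 by decide)
  have hab : (a = ix hn 2 ∧ b = ix hn 3) ∨ (a = ix hn 3 ∧ b = ix hn 2) := by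
    have := a.isLt
    have := b.isLt
    have : a.val ≠ b.val := fun e => h (Fin.ext e)
    simp only [Fin.ext_iff, ix, Fin.val_castLE]
    simp
    omega
  suffices hall : ∀ w, br hs (fA hn z) (gA hn (ix hn 2) (ix hn 3) w) = 1 by
    rcases hab with ⟨rfl, rfl⟩ | ⟨rfl, rfl⟩
    · have := hall (up t)
      rwa [gA_up h23] at this
    · have := hall (low t)
      rwa [gA, MonoidHom.comp_apply, emb2_low h23, levC_tv] at this
  intro w
  by_cases h4 : 4 ≤ Fintype.card F
  · exact br_one_of_perfect hs hk (PSLMultiplier.sl_two_perfect h4) _ (fA_comm23 z) w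
  have h3 : Fintype.card F = 3 := by
    have := Fintype.one_lt_card (α := F)
    have := hq (by omega)
    omega
  refine br_homs_of_up hs hk _ _ fA_comm23 (br_ups_of_one hs hk _ _ (by omega) fA_comm23 ?_) z w
  obtain ⟨Z, hZ⟩ := exists_Z (F := F) hn
  refine br_one_of_swap hs hk (fA_comm23 _ _) Z ?_ ?_ ?_
  · rw [fA_up, gA_up h23]; exact (hZ 1).1
  · rw [fA_up, gA_up h23]; exact (hZ 1).2
  · have h0 : (3 : F) = 0 := by
      have := FiniteField.cast_card_eq_zero F
      rw [h3] at this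
      exact_mod_cast this
    rw [← map_pow, show up (1 : F) ^ 3 = 1 from by
      rw [pow_succ, pow_two, up_add, up_add, show (1 : F) + 1 + 1 = 0 by linear_combination h0, up_zero],
      map_one]

end CfsgLib.KnownA.PlusMultiplier
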